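import Cfsg.Agent.Lib.Components.Quasisimple
import Cfsg.Agent.Lib.PLocal.Comm

/-!
# The P(G,V)-theorem: basic facts

Quasisimple subgroups, unipotent elements on a module in characteristic `p`, and the replacement theorem
for a best offender in a representation.
-/

set_option autoImplicit false
set_option linter.all false
set_option maxHeartbeats 800000

namespace CfsgLib.LocalEvenB.PGV

universe u v

variable {G : Type u} [Group G] [Finite G]

/-! ### Quasisimple subgroups -/

section QS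

variable {K : Subgroup G} (hK : Cfsg.IsQuasisimple K)

include hK in
theorem qs_alt (S : Subgroup G) (hS : ∀ u ∈ K, ∀ g ∈ K, g ∈ S → u * g * u⁻¹ ∈ S) :
    K ≤ S ∨ ∀ g ∈ K, g ∈ S → ∀ u ∈ K, u * g = g * u := by
  haveI hN : (S.subgroupOf K).Normal := ⟨fun g hg u => hS u u.2 g g.2 hg⟩
  rcases CfsgLib.Components.IsQuasisimple.normal_le_center_or_eq_top hK hN with h | h
  · exact Or.inr fun g hg hgS u hu =>
      congrArg Subtype.val (Subgroup.mem_center_iff.1 (h (show (⟨g, hg⟩ : K) ∈ S.subgroupOf K from hgS)) ⟨u, hu⟩)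
  · exact Or.inl (Subgroup.subgroupOf_eq_top.1 h)

include hK in
theorem qs_hom_trivial {M : Type*} [Monoid M] (f : K →* M) (hc : ∀ x y, f x * f y = f y * f x) (x : K) : f x = 1 := by
  haveI := hK.1
  have h : (⊤ : Subgroup K) ≤ f.toHomUnits.ker := by
    rw [← Group.IsPerfect.commutator_eq_top (G := K), commutator_def, Subgroup.commutator_le]
    intro g _ g' _
    rw [MonoidHom.mem_ker, map_commutatorElement, commutatorElement_eq_one_iff_mul_comm]
    exact Units.ext (hc g g')
  exact congrArg Units.val (h (Subgroup.mem_top x))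

include hK in
theorem qs_not_comm : ¬ ∀ g ∈ K, ∀ h ∈ K, g * h = h * g := fun hab =>
  CfsgLib.Components.IsQuasisimple.not_isMulCommutative hK
    ⟨⟨fun a b => Subtype.ext (hab a a.2 b b.2)⟩⟩

include hK in
/-- An element normalising `K` which is trivial on `K` modulo a normal set is trivial or the set is all. -/
theorem qs_comm (S : Subgroup G) (hS : ∀ u ∈ K, ∀ g ∈ K, g ∈ S → u * g * u⁻¹ ∈ S) (b : G)
    (hbK : ∀ g ∈ K, b * g * b⁻¹ ∈ K) (h : ∀ z ∈ K, b * z * b⁻¹ * z⁻¹ ∈ S) :
    K ≤ S ∨ ∀ z ∈ K, b * z = z * b := by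
  rcases qs_alt hK S hS with h1 | h1
  · exact Or.inl h1
  refine Or.inr fun z hz => ?_
  have hmem : ∀ w ∈ K, b * w * b⁻¹ * w⁻¹ ∈ K := fun w hw => K.mul_mem (hbK w hw) (K.inv_mem hw)
  let f : K →* Subgroup.center K := MonoidHom.mk'
    (fun w => ⟨⟨b * w * b⁻¹ * (w : G)⁻¹, hmem w w.2⟩, Subgroup.mem_center_iff.2 fun u =>
      Subtype.ext (h1 _ (hmem w w.2) (h w w.2) u u.2)⟩) fun w w' => by
    refine Subtype.ext (Subtype.ext ?_)
    show b * ((w : G) * w') * b⁻¹ * ((w : G) * w')⁻¹ = (b * w * b⁻¹ * (w : G)⁻¹) * (b * w' * b⁻¹ * (w' : G)⁻¹)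
    rw [h1 _ (hmem w' w'.2) (h w' w'.2) _ (hmem w w.2)]
    calc b * ((w : G) * w') * b⁻¹ * ((w : G) * w')⁻¹
        = (b * w * b⁻¹) * ((b * w' * b⁻¹ * (w' : G)⁻¹) * (w : G)⁻¹) := by group
      _ = (b * w * b⁻¹) * ((w : G)⁻¹ * (b * w' * b⁻¹ * (w' : G)⁻¹)) := by
          rw [h1 _ (hmem w' w'.2) (h w' w'.2) _ (K.inv_mem w.2)]
      _ = (b * w' * b⁻¹ * (w' : G)⁻¹) * (b * w * b⁻¹ * (w : G)⁻¹) := by
          rw [← mul_assoc, h1 _ (hmem w' w'.2) (h w' w'.2) _ (hmem w w.2)]
  have := congrArg (fun x : Subgroup.center K => ((x : K) : G)) (qs_hom_trivial hK f (fun x y => Subgroup.mem_center_iff.1 (f y).2 (f x) |> Subtype.ext) ⟨z, hz⟩)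
  calc b * z = (b * z * b⁻¹ * z⁻¹) * z * b := by group
    _ = z * b := by rw [show b * z * b⁻¹ * z⁻¹ = 1 from this, one_mul]

include hK in
theorem qs_z (S : Subgroup G) (hS : ∀ u ∈ K, ∀ g ∈ K, g ∈ S → u * g * u⁻¹ ∈ S) {z : G} (hz : z ∈ K)
    (h : ∀ u ∈ K, u * z * u⁻¹ * z⁻¹ ∈ S) : K ≤ S ∨ ∀ u ∈ K, u * z = z * u := by
  refine (qs_comm hK S hS z (fun g hg => K.mul_mem (K.mul_mem hz hg) (K.inv_mem hz)) fun u hu => ?_).imp id
    fun h1 u hu => (h1 u hu).symm
  have := S.inv_mem (h u hu)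
  rwa [show (u * z * u⁻¹ * z⁻¹)⁻¹ = z * u * z⁻¹ * u⁻¹ by group] at this

include hK in
/-- A quasisimple group is generated by its noncentral elements of order prime to `p`. -/
theorem qs_gen {p : ℕ} [hp : Fact p.Prime] (S : Subgroup G)
    (h : ∀ z ∈ K, (orderOf z).Coprime p → (∃ u ∈ K, u * z ≠ z * u) → z ∈ S) : K ≤ S := by
  obtain ⟨T, hT⟩ : ∃ T, T = Subgroup.closure {z : G | z ∈ K ∧ (orderOf z).Coprime p ∧ ∃ u ∈ K, u * z ≠ z * u} := ⟨_, rfl⟩
  have hTS : T ≤ S := hT ▸ (Subgroup.closure_le S).2 fun z hz => h z hz.1 hz.2.1 hz.2.2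
  refine le_trans ?_ hTS
  have hTn : ∀ u ∈ K, ∀ g ∈ K, g ∈ T → u * g * u⁻¹ ∈ T := by
    intro u hu g _ hg
    have hle : T ≤ T.comap (MulAut.conj u).toMonoidHom := by
      rw [hT, Subgroup.closure_le]
      rintro z ⟨hz, hzo, w, hw, hne⟩
      refine Subgroup.subset_closure ⟨K.mul_mem (K.mul_mem hu hz) (K.inv_mem hu), ?_, u * w * u⁻¹,
        K.mul_mem (K.mul_mem hu hw) (K.inv_mem hu), fun he => hne ?_⟩
      · rwa [show (MulAut.conj u).toMonoidHom z = MulAut.conj u z from rfl, MulEquiv.orderOf_eq]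
      · change u * w * u⁻¹ * (u * z * u⁻¹) = u * z * u⁻¹ * (u * w * u⁻¹) at he
        calc w * z = u⁻¹ * (u * w * u⁻¹ * (u * z * u⁻¹)) * u := by group
          _ = z * w := by rw [he]; group
    exact hle hg
  rcases qs_alt hK T hTn with h1 | h1
  · exact h1
  exfalso
  -- all elements of order prime to p are central
  have hcen : ∀ z ∈ K, (orderOf z).Coprime p → ∀ u ∈ K, u * z = z * u := fun z hz hzo u hu => by
    by_contra hne
    exact hne (h1 z hz (hT ▸ Subgroup.subset_closure ⟨hz, hzo, u, hu, hne⟩) u hu)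
  haveI := hK.1
  haveI := hK.2
  have hP : IsPGroup p (K ⧸ Subgroup.center K) := fun x => by
    induction x using QuotientGroup.induction_on with
    | H g =>
      refine ⟨(orderOf (g : G)).factorization p, ?_⟩
      rw [← QuotientGroup.mk_pow, QuotientGroup.eq_one_iff, Subgroup.mem_center_iff]
      intro u
      refine Subtype.ext (hcen _ (g ^ p ^ _).2 ?_ u u.2)
      rw [SubgroupClass.coe_pow, orderOf_pow_of_dvd (pow_ne_zero _ hp.out.pos.ne') (Nat.ordProj_dvd _ _)]
      exact (Nat.coprime_ordCompl hp.out (orderOf_pos _).ne').symm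
  haveI := hP.isNilpotent
  exact Group.IsPerfect.not_isSolvable (K ⧸ Subgroup.center K) inferInstance

end QS

/-! ### Modules in characteristic `p` -/

variable {p : ℕ} [hp : Fact p.Prime] {V : Type v} [AddCommGroup V] [Module (ZMod p) V] [Finite V]

local notation "E" => Module.End (ZMod p) V

theorem nsmul_p_end (X : Module.End (ZMod p) V) : p • X = 0 := by
  rw [← Nat.cast_smul_eq_nsmul (ZMod p), ZMod.natCast_self, zero_smul]

theorem eq_zero_of_nsmul {m : ℕ} (hm : m.Coprime p) (X : Module.End (ZMod p) V) (h : m • X = 0) : X = 0 := by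
  rw [← Nat.cast_smul_eq_nsmul (ZMod p)] at h
  refine (smul_eq_zero.1 h).resolve_left fun h0 => ?_
  rw [ZMod.natCast_eq_zero_iff] at h0
  exact hp.out.one_lt.ne' (Nat.dvd_one.1 (hm ▸ Nat.dvd_gcd h0 dvd_rfl))

/-- A semisimple operator has no nontrivial Jordan block at one. -/
theorem fix_of_pow {T X : Module.End (ZMod p) V} {m : ℕ} (hm : m.Coprime p) (hT : T ^ m = 1)
    (h : (T - 1) * ((T - 1) * X) = 0) : (T - 1) * X = 0 := by
  have h2 : ∀ i : ℕ, T ^ i * X = X + i • ((T - 1) * X) := by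
    intro i
    induction i with
    | zero => simp
    | succ i ih =>
      have h3 : T * ((T - 1) * X) = (T - 1) * X := by rw [← sub_eq_zero, ← h]; simp [sub_mul]
      rw [pow_succ', mul_assoc, ih, mul_add, mul_smul_comm, h3, succ_nsmul, sub_mul, one_mul]
      abel
  have := h2 m
  rw [hT, one_mul, left_eq_add] at this
  exact eq_zero_of_nsmul hm _ this

theorem eq_one_of_sq {T : Module.End (ZMod p) V} {m : ℕ} (hm : m.Coprime p) (hT : T ^ m = 1)
    (h : (T - 1) * (T - 1) = 0) : T = 1 := by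
  have := fix_of_pow (X := 1) hm hT (by rw [mul_one, h])
  rwa [mul_one, sub_eq_zero] at this

theorem eq_one_of_cube {T : Module.End (ZMod p) V} {m : ℕ} (hm : m.Coprime p) (hT : T ^ m = 1)
    (h : (T - 1) * ((T - 1) * (T - 1)) = 0) : T = 1 :=
  eq_one_of_sq hm hT (fix_of_pow hm hT h)

theorem sub_one_pow_p {T : Module.End (ZMod p) V} (hT : T ^ p = 1) : (T - 1) ^ p = 0 := by
  obtain ⟨r, hr⟩ := (Commute.one_right (T - 1)).exists_add_pow_prime_eq hp.out
  rw [sub_add_cancel, hT, one_pow, mul_assoc, mul_assoc, ← nsmul_eq_mul, nsmul_p_end, add_zero] at hr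
  simpa using hr

/-- The elements fixing a set pointwise. -/
def fixer (ρ : Representation (ZMod p) G V) (S : Set V) : Subgroup G where
  carrier := {g | ∀ x ∈ S, ρ g x = x}
  one_mem' := fun x _ => by simp
  mul_mem' := fun {a b} ha hb x hx => by rw [map_mul, Module.End.mul_apply, hb x hx, ha x hx]
  inv_mem' := fun {a} ha x hx => by
    conv_lhs => rw [← ha x hx]
    rw [← Module.End.mul_apply, ← map_mul, inv_mul_cancel, map_one, Module.End.one_apply]

/-- The elements fixing an operator from the left. -/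
def stab (ρ : Representation (ZMod p) G V) (X : Module.End (ZMod p) V) : Subgroup G where
  carrier := {g | ρ g * X = X}
  one_mem' := by simp
  mul_mem' := fun {a b} ha hb => by
    show ρ (a * b) * X = X
    rw [map_mul, mul_assoc, hb, ha]
  inv_mem' := fun {a} ha => by
    show ρ a⁻¹ * X = X
    conv_lhs => rw [← (ha : ρ a * X = X), ← mul_assoc, ← map_mul, inv_mul_cancel, map_one, one_mul]

/-- The fixed points of a subgroup. -/
def fixSub (ρ : Representation (ZMod p) G V) (B : Subgroup G) : Submodule (ZMod p) V where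
  carrier := {v | ∀ b ∈ B, ρ b v = v}
  zero_mem' := fun b _ => map_zero _
  add_mem' := fun {x y} hx hy b hb => by rw [map_add, hx b hb, hy b hb]
  smul_mem' := fun c x hx b hb => by rw [map_smul, hx b hb]

/-- The measure `|B| |C_V(B)|`. -/
noncomputable def meas (ρ : Representation (ZMod p) G V) (B : Subgroup G) : ℕ :=
  Nat.card B * Nat.card (fixSub ρ B)

theorem fixSub_anti (ρ : Representation (ZMod p) G V) {B A : Subgroup G} (h : B ≤ A) : fixSub ρ A ≤ fixSub ρ B :=
  fun v hv b hb => hv b (h hb)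

theorem fixSub_sup (ρ : Representation (ZMod p) G V) (B C : Subgroup G) :
    fixSub ρ (B ⊔ C) = fixSub ρ B ⊓ fixSub ρ C := by
  refine le_antisymm (le_inf (fixSub_anti ρ le_sup_left) (fixSub_anti ρ le_sup_right)) fun v hv b hb => ?_
  have h : B ⊔ C ≤ fixer ρ {v} := sup_le (fun x hx y hy => by rw [Set.mem_singleton_iff.1 hy]; exact hv.1 x hx)
    (fun x hx y hy => by rw [Set.mem_singleton_iff.1 hy]; exact hv.2 x hx)
  exact h hb v rfl

theorem rho_pow_orderOf (ρ : Representation (ZMod p) G V) (g : G) : ρ g ^ orderOf g = 1 := by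
  rw [← map_pow, pow_orderOf_eq_one, map_one]

/-- The A × B lemma for one unipotent element. -/
theorem axb (ρ : Representation (ZMod p) G V) {b x : G} (hb : b ^ p = 1) (hxb : x * b = b * x)
    (hx : (orderOf x).Coprime p) (hfix : ∀ v, ρ b v = v → ρ x v = v) : ρ x = 1 := by
  have hc : ρ x * (ρ b - 1) = (ρ b - 1) * ρ x := by rw [mul_sub, sub_mul, ← map_mul, ← map_mul, hxb]; simp
  have key : ∀ i : ℕ, ∀ v : V, ((ρ b - 1 : Module.End (ZMod p) V) ^ i) v = 0 → ρ x v = v := by
    intro i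
    induction i with
    | zero => intro v hv; simp only [pow_zero, Module.End.one_apply] at hv; simp [hv]
    | succ i ih =>
      intro v hv
      have h1 : ρ x ((ρ b - 1) v) = (ρ b - 1) v := ih _ (by rw [← Module.End.mul_apply, ← pow_succ]; exact hv)
      rw [← Module.End.mul_apply, hc, Module.End.mul_apply] at h1
      have h2 : ρ b (ρ x v - v) = ρ x v - v := by
        rw [LinearMap.sub_apply, LinearMap.sub_apply, Module.End.one_apply, Module.End.one_apply] at h1
        rw [map_sub]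
        linear_combination (norm := abel) h1
      have h3 := hfix _ h2
      have h4 : ∀ j : ℕ, (ρ x ^ j) v = v + j • (ρ x v - v) := by
        intro j
        induction j with
        | zero => simp
        | succ j ih4 => rw [pow_succ', Module.End.mul_apply, ih4, map_add, map_nsmul, h3, succ_nsmul]; abel
      have h5 := h4 (orderOf x)
      rw [rho_pow_orderOf, Module.End.one_apply, left_eq_add, ← Nat.cast_smul_eq_nsmul (ZMod p)] at h5
      refine sub_eq_zero.1 ((smul_eq_zero.1 h5).resolve_left fun h0 => ?_)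
      rw [ZMod.natCast_eq_zero_iff] at h0
      exact hp.out.one_lt.ne' (Nat.dvd_one.1 (hx ▸ Nat.dvd_gcd h0 dvd_rfl))
  refine LinearMap.ext fun v => key p v ?_
  rw [sub_one_pow_p (by rw [← map_pow, hb, map_one]), LinearMap.zero_apply]

/-! ### Replacement -/

variable (ρ : Representation (ZMod p) G V) (A : Subgroup G)

/-- The differences `ρ c u - u`. -/
def dset (U : Set V) : Set V := {x | ∃ c ∈ A, ∃ u ∈ U, ρ c u - u = x}

/-- The centraliser in `A` of `[U, A]`. -/
def repl (U : Set V) : Subgroup G := A ⊓ fixer ρ (dset ρ A U)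

variable {ρ A}

theorem span_le_fix_repl (U : Set V) : Submodule.span (ZMod p) (dset ρ A U) ≤ fixSub ρ (repl ρ A U) :=
  Submodule.span_le.2 fun _ hx _ hb => hb.2 _ hx

theorem tie_step (hab : ∀ a ∈ A, ∀ b ∈ A, a * b = b * a) (u : V) :
    Nat.card A * Nat.card (fixSub ρ A) ≤
      Nat.card (repl ρ A {u}) * Nat.card ↥(Submodule.span (ZMod p) (dset ρ A {u}) ⊔ fixSub ρ A) := by
  classical
  obtain ⟨W, hW⟩ : ∃ W, W = Submodule.span (ZMod p) (dset ρ A {u}) := ⟨_, rfl⟩
  rw [← hW]
  obtain ⟨C, hC⟩ : ∃ C, C = fixSub ρ A := ⟨_, rfl⟩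
  rw [← hC]
  let f : A → ↥(W ⊔ C) ⧸ C.comap (W ⊔ C).subtype := fun a => Submodule.Quotient.mk
    ⟨ρ (a : G) u - u, Submodule.mem_sup_left (hW ▸ Submodule.subset_span ⟨a, a.2, u, rfl, rfl⟩)⟩
  have key : ∀ a a' : A, f a = f a' → (a : G)⁻¹ * a' ∈ repl ρ A {u} := by
    intro a a' h
    refine ⟨A.mul_mem (A.inv_mem a.2) a'.2, ?_⟩
    rw [Submodule.Quotient.eq, Submodule.mem_comap, Submodule.subtype_apply, Submodule.coe_sub, hC] at h
    rintro _ ⟨c, hc, u', hu', rfl⟩
    rw [Set.mem_singleton_iff] at hu'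
    subst u'
    have h1 := h c hc
    simp only [map_sub] at h1
    rw [← Module.End.mul_apply, ← Module.End.mul_apply, ← map_mul, ← map_mul, hab c hc a a.2, hab c hc a' a'.2,
      map_mul, map_mul, Module.End.mul_apply, Module.End.mul_apply] at h1
    have h2 : ρ (a' : G) (ρ c u - u) = ρ (a : G) (ρ c u - u) := by
      simp only [map_sub]
      linear_combination (norm := abel) -(1 : ℤ) • h1
    rw [map_mul, Module.End.mul_apply, h2, ← Module.End.mul_apply, ← map_mul, inv_mul_cancel, map_one,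
      Module.End.one_apply]
  have hinj : Function.Injective fun q : A ⧸ (repl ρ A {u}).subgroupOf A => f q.out := by
    intro q q' h
    rw [← QuotientGroup.out_eq' q, ← QuotientGroup.out_eq' q', QuotientGroup.eq]
    exact key _ _ h
  haveI : Finite (↥(W ⊔ C) ⧸ C.comap (W ⊔ C).subtype) := Quotient.finite _
  have hidx := Nat.card_le_card_of_injective _ hinj
  have h1 := Subgroup.card_mul_index ((repl ρ A {u}).subgroupOf A)
  have hrA : repl ρ A {u} ≤ A := inf_le_left
  rw [Nat.card_congr (Subgroup.subgroupOfEquivOfLe hrA).toEquiv, Subgroup.index] at h1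
  have h2 := Submodule.card_eq_card_quotient_mul_card (C.comap (W ⊔ C).subtype)
  rw [Nat.card_congr (Submodule.comapSubtypeEquivOfLe (le_sup_right : C ≤ W ⊔ C)).toEquiv] at h2
  rw [← h1, h2]
  calc _ ≤ Nat.card (repl ρ A {u}) * Nat.card (↥(W ⊔ C) ⧸ C.comap (W ⊔ C).subtype) * Nat.card C :=
        Nat.mul_le_mul_right _ (Nat.mul_le_mul_left _ hidx)
    _ = _ := by ring

theorem card_sup_mul_inf (P Q : Submodule (ZMod p) V) :
    Nat.card P * Nat.card Q = Nat.card ↥(P ⊔ Q) * Nat.card ↥(P ⊓ Q) := by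
  haveI : Module.Finite (ZMod p) V := Module.Finite.of_finite
  rw [Module.natCard_eq_pow_finrank (K := ZMod p) (V := P), Module.natCard_eq_pow_finrank (K := ZMod p) (V := Q),
    Module.natCard_eq_pow_finrank (K := ZMod p) (V := ↥(P ⊔ Q)), Module.natCard_eq_pow_finrank (K := ZMod p) (V := ↥(P ⊓ Q)),
    ← pow_add, ← pow_add, Submodule.finrank_sup_add_finrank_inf_eq]

/-- Thompson replacement in a representation. -/
theorem tie (hab : ∀ a ∈ A, ∀ b ∈ A, a * b = b * a) (hbest : ∀ B ≤ A, meas ρ B ≤ meas ρ A) (U : Set V) :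
    meas ρ (repl ρ A U) = meas ρ A ∧
      fixSub ρ (repl ρ A U) = Submodule.span (ZMod p) (dset ρ A U) ⊔ fixSub ρ A := by
  classical
  have hle : ∀ U, Submodule.span (ZMod p) (dset ρ A U) ⊔ fixSub ρ A ≤ fixSub ρ (repl ρ A U) := fun U =>
    sup_le (span_le_fix_repl U) (fixSub_anti ρ inf_le_left)
  have hstep : ∀ U, meas ρ A ≤ Nat.card (repl ρ A U) * Nat.card ↥(Submodule.span (ZMod p) (dset ρ A U) ⊔ fixSub ρ A) →
      meas ρ (repl ρ A U) = meas ρ A ∧ fixSub ρ (repl ρ A U) = Submodule.span (ZMod p) (dset ρ A U) ⊔ fixSub ρ A := by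
    intro U h
    have h1 : Nat.card ↥(Submodule.span (ZMod p) (dset ρ A U) ⊔ fixSub ρ A) ≤ Nat.card (fixSub ρ (repl ρ A U)) :=
      Nat.card_le_card_of_injective _ (Submodule.inclusion_injective (hle U))
    have h2 := hbest _ (inf_le_left : repl ρ A U ≤ A)
    have h3 : meas ρ (repl ρ A U) = meas ρ A := le_antisymm h2 (h.trans (Nat.mul_le_mul_left _ h1))
    refine ⟨h3, (SetLike.coe_injective (Set.eq_of_subset_of_ncard_le (hle U) ?_ (Set.toFinite _))).symm⟩
    rw [← Nat.card_coe_set_eq, ← Nat.card_coe_set_eq]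
    exact Nat.le_of_mul_le_mul_left (h2.trans h) Nat.card_pos
  induction U, Set.toFinite U using Set.Finite.induction_on with
  | empty =>
    have h : repl ρ A ∅ = A := inf_eq_left.2 fun a _ x hx => by
      obtain ⟨_, _, u, hu, _⟩ := hx
      exact absurd hu (Set.notMem_empty u)
    have h' : dset ρ A ∅ = ∅ := Set.eq_empty_of_forall_notMem fun x ⟨_, _, u, hu, _⟩ => Set.notMem_empty u hu
    rw [h, h', Submodule.span_empty, bot_sup_eq]
    exact ⟨rfl, rfl⟩
  | @insert u s _ _ ih =>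
    obtain ⟨e2, c2⟩ := hstep {u} (tie_step hab u)
    obtain ⟨e1, c1⟩ := ih
    have hd : dset ρ A (insert u s) = dset ρ A s ∪ dset ρ A {u} := by
      ext x
      simp only [dset, Set.mem_union, Set.mem_setOf_eq, Set.mem_insert_iff, Set.mem_singleton_iff]
      constructor
      · rintro ⟨c, hc, w, rfl | hw, rfl⟩
        exacts [Or.inr ⟨c, hc, w, rfl, rfl⟩, Or.inl ⟨c, hc, w, hw, rfl⟩]
      · rintro (⟨c, hc, w, hw, rfl⟩ | ⟨c, hc, w, hw, rfl⟩)
        exacts [⟨c, hc, w, Or.inr hw, rfl⟩, ⟨c, hc, w, Or.inl hw, rfl⟩]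
    have hB : repl ρ A (insert u s) = repl ρ A s ⊓ repl ρ A {u} := by
      refine le_antisymm (le_inf ?_ ?_) fun g hg => ⟨hg.1.1, fun x hx => ?_⟩
      · exact fun g hg => ⟨hg.1, fun x hx => hg.2 x (hd ▸ Or.inl hx)⟩
      · exact fun g hg => ⟨hg.1, fun x hx => hg.2 x (hd ▸ Or.inr hx)⟩
      · rw [hd] at hx
        exact hx.elim (hg.1.2 x) (hg.2.2 x)
    have hn : repl ρ A s ≤ Subgroup.normalizer (repl ρ A {u} : Set G) := Subgroup.le_normalizer_iff.2 fun x hx y hy => by
      rw [hab x hx.1 y hy.1, mul_inv_cancel_right]; exact hy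
    have p1 := CfsgLib.PLocal.card_sup_mul_card_inf _ _ hn
    have p2 := card_sup_mul_inf (fixSub ρ (repl ρ A s)) (fixSub ρ (repl ρ A {u}))
    rw [← hB] at p1
    rw [← fixSub_sup, c1, c2, sup_sup_sup_comm, sup_idem, ← Submodule.span_union, ← hd] at p2
    refine hstep _ (Nat.le_of_mul_le_mul_left ?_ (Nat.mul_pos Nat.card_pos Nat.card_pos : 0 < meas ρ A))
    have h12 := hbest (repl ρ A s ⊔ repl ρ A {u}) (sup_le inf_le_left inf_le_left)
    calc meas ρ A * meas ρ A = meas ρ (repl ρ A s) * meas ρ (repl ρ A {u}) := by rw [e1, e2]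
      _ = meas ρ (repl ρ A s ⊔ repl ρ A {u}) * (Nat.card (repl ρ A (insert u s)) *
          Nat.card ↥(Submodule.span (ZMod p) (dset ρ A (insert u s)) ⊔ fixSub ρ A)) := by
          unfold meas
          calc _ = (Nat.card (repl ρ A s) * Nat.card (repl ρ A {u})) *
                (Nat.card (fixSub ρ (repl ρ A s)) * Nat.card (fixSub ρ (repl ρ A {u}))) := by ring
            _ = _ := by rw [p1, c1, c2, p2]; ring
      _ ≤ _ := Nat.mul_le_mul_right _ h12

/-- A module with `W ≤ [W, A]` for commuting unipotent operators is trivial. -/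
theorem eq_bot_of_le_aug (hab : ∀ a ∈ A, ∀ b ∈ A, a * b = b * a) (hexp : ∀ a ∈ A, a ^ p = 1)
    (W : Submodule (ZMod p) V) (hW : ∀ a ∈ A, ∀ v ∈ W, ρ a v ∈ W)
    (S : Finset G) (hS : ∀ c ∈ S, c ∈ A) (h : W ≤ S.sup fun c => W.map (ρ c - 1)) : W = ⊥ := by
  classical
  induction S using Finset.induction with
  | empty => simpa using h
  | @insert c s _ ih =>
    rw [Finset.sup_insert] at h
    have hcA := hS c (Finset.mem_insert_self c s)
    obtain ⟨R, hR⟩ : ∃ R, R = s.sup (fun d => W.map (ρ d - 1)) := ⟨_, rfl⟩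
    rw [← hR] at h
    refine ih (fun d hd => hS d (Finset.mem_insert_of_mem hd)) (hR ▸ ?_)
    have hWc : W.map (ρ c - 1) ≤ W := by
      rintro _ ⟨v, hv, rfl⟩
      exact W.sub_mem (hW c hcA v hv) hv
    have hRc : R.map (ρ c - 1) ≤ R := by
      rw [hR, Submodule.map_le_iff_le_comap, Finset.sup_le_iff]
      rintro d hd _ ⟨v, hv, rfl⟩
      rw [Submodule.mem_comap, ← Module.End.mul_apply,
        show (ρ c - 1) * (ρ d - 1) = (ρ d - 1) * (ρ c - 1) by
          simp only [mul_sub, sub_mul, ← map_mul, hab c hcA d (hS d (Finset.mem_insert_of_mem hd)), mul_one, one_mul]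
          abel, Module.End.mul_apply]
      exact (Finset.le_sup (f := fun d => W.map (ρ d - 1)) hd : W.map (ρ d - 1) ≤ _) ⟨_, hWc ⟨v, hv, rfl⟩, rfl⟩
    have hiter : ∀ i, W ≤ W.map ((ρ c - 1) ^ i) ⊔ R := by
      intro i
      induction i with
      | zero => rw [pow_zero]; exact le_sup_of_le_left fun v hv => ⟨v, hv, rfl⟩
      | succ i ihi =>
        refine h.trans (sup_le ?_ le_sup_right)
        refine (Submodule.map_mono ihi).trans ?_
        rw [Submodule.map_sup, ← Submodule.map_comp]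
        exact sup_le (le_sup_of_le_left (le_of_eq (congrArg (fun f => W.map f) (pow_succ' (ρ c - 1) i).symm)))
          (le_sup_of_le_right hRc)
    have := hiter p
    rwa [sub_one_pow_p (by rw [← map_pow, hexp c hcA, map_one]), Submodule.map_zero, bot_sup_eq] at this

end CfsgLib.LocalEvenB.PGV
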