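import Cfsg.Agent.Lib.LocalEvenB.PGV.TwoFinal
import Cfsg.Agent.Lib.Components.Component

/-!
# The P(G,V)-theorem: a best offender normalises every component
-/

set_option autoImplicit false
set_option linter.all false
set_option maxHeartbeats 800000

namespace CfsgLib.LocalEvenB.PGV

universe u v

variable {p : ℕ} [hp : Fact p.Prime]

/-- The elements leaving a submodule invariant. -/
def invariantSub {G : Type u} [Group G] [Finite G] {V : Type v} [AddCommGroup V] [Module (ZMod p) V]
    (ρ : Representation (ZMod p) G V) (U : Submodule (ZMod p) V) : Subgroup G where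
  carrier := {g | ∀ x ∈ U, ρ g x ∈ U}
  one_mem' := fun x hx => by simpa using hx
  mul_mem' := fun {g h} hg hh x hx => by rw [map_mul, Module.End.mul_apply]; exact hg _ (hh x hx)
  inv_mem' := fun {g} hg => by
    have hpow : ∀ n : ℕ, ∀ x ∈ U, ρ (g ^ n) x ∈ U := by
      intro n
      induction n with
      | zero => intro x hx; simpa using hx
      | succ n ih => intro x hx; rw [pow_succ, map_mul, Module.End.mul_apply]; exact ih _ (hg x hx)
    intro x hx
    rw [inv_eq_of_mul_eq_one_left (show g ^ (orderOf g - 1) * g = 1 by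
      rw [← pow_succ, Nat.sub_add_cancel (orderOf_pos g), pow_orderOf_eq_one])]
    exact hpow _ x hx

theorem data_normalizes : ∀ (N : ℕ) {G : Type u} [Group G] [Finite G] {V : Type v} [AddCommGroup V] [Module (ZMod p) V]
    [Finite V] {ρ : Representation (ZMod p) G V} {A K : Subgroup G},
    Data ρ A K → Nat.card A + Nat.card V = N → ∀ a ∈ A, a ∈ Subgroup.normalizer (K : Set G) := by
  intro N
  induction N using Nat.strong_induction_on with
  | _ N ih =>
    intro G _ _ V _ _ _ ρ A K hD hN a0 ha0
    by_contra hm0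
    have hsmall : ∀ B ≤ A, (∀ C ≤ B, meas ρ C ≤ meas ρ B) → (∃ a ∈ B, a ∉ Subgroup.normalizer (K : Set G)) → B = A := by
      intro B hBA hbest ⟨a, ha, hm⟩
      by_contra hne
      have hlt : Nat.card B < Nat.card A := Set.Finite.card_lt_card (Set.toFinite _) (SetLike.coe_ssubset_coe.2 (lt_of_le_of_ne hBA hne))
      exact hm (ih (Nat.card B + Nat.card V) (by omega) ⟨hD.qs, fun a ha b hb => hD.comm a (hBA ha) b (hBA hb),
        fun a ha => hD.exp a (hBA ha), fun a ha => hD.dicho a (hBA ha), hD.nontriv, hbest⟩ rfl a ha)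
    have hirr : ∀ U, Inv ρ A K U → U = ⊤ ∨ ∀ g ∈ K, ∀ x ∈ U, ρ g x = x := by
      intro U hU
      by_contra hcon
      push Not at hcon
      obtain ⟨hUtop, g0, hg0, x0, hx0, hne⟩ := hcon
      obtain ⟨H, hH⟩ : ∃ H, H = A ⊔ K := ⟨_, rfl⟩
      have hAH : A ≤ H := hH ▸ le_sup_left
      have hKH : K ≤ H := hH ▸ le_sup_right
      have hHU : H ≤ invariantSub ρ U := hH ▸ sup_le (fun a ha => hU.1 a ha) (fun g hg => hU.2 g hg)
      let ρU : Representation (ZMod p) H U :=
        { toFun := fun h => (ρ (h : G)).restrict fun x hx => hHU h.2 x hx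
          map_one' := LinearMap.ext fun x => Subtype.ext (by simp)
          map_mul' := fun h h' => LinearMap.ext fun x => Subtype.ext (by simp [LinearMap.restrict_apply]) }
      have hρU : ∀ (h : H) (x : U), ((ρU h x : U) : V) = ρ (h : G) x := fun h x => rfl
      have hfix : ∀ B : Subgroup H, Nat.card (fixSub ρU B) = Nat.card ↥(U ⊓ fixSub ρ (B.map H.subtype)) := fun B =>
        Nat.card_congr
          { toFun := fun x => ⟨((x : U) : V), (x : U).2, fun b hb => by
              obtain ⟨b', hb', rfl⟩ := hb
              exact congrArg Subtype.val (x.2 b' hb')⟩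
            invFun := fun x => ⟨⟨(x : V), x.2.1⟩, fun b hb => Subtype.ext (x.2.2 (b : G) ⟨b, hb, rfl⟩)⟩
            left_inv := fun x => rfl
            right_inv := fun x => rfl }
      have hcardB : ∀ B : Subgroup H, Nat.card B = Nat.card ↥(B.map H.subtype) := fun B =>
        Nat.card_congr (B.equivMapOfInjective H.subtype H.subtype_injective).toEquiv
      have hmap : (A.subgroupOf H).map H.subtype = A := by rw [Subgroup.subgroupOf_map_subtype, inf_eq_left.2 hAH]
      have hD' : Data ρU (A.subgroupOf H) (K.subgroupOf H) :=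
        { qs := (CfsgLib.Components.isQuasisimple_congr (Subgroup.subgroupOfEquivOfLe hKH)).mpr hD.qs
          comm := fun a ha b hb => Subtype.ext (hD.comm a ha b hb)
          exp := fun a ha => Subtype.ext (by rw [SubgroupClass.coe_pow]; exact hD.exp a ha)
          dicho := fun a ha => by
            rcases hD.dicho a ha with h | h
            · exact Or.inl (Subgroup.mem_normalizer_iff.2 fun g => Subgroup.mem_normalizer_iff.1 h g)
            · exact Or.inr fun g hg f hf => Subtype.ext (h g hg f hf)
          nontriv := ⟨⟨g0, hKH hg0⟩, hg0, fun h => hne (congrArg Subtype.val (LinearMap.congr_fun h ⟨x0, hx0⟩))⟩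
          best := fun B hB => by
            unfold meas
            rw [hfix, hfix, hcardB B, hcardB (A.subgroupOf H), hmap]
            obtain ⟨B0, hB0⟩ : ∃ B0, B0 = B.map H.subtype := ⟨_, rfl⟩
            have hBA : B0 ≤ A := hB0 ▸ hmap ▸ Subgroup.map_mono hB
            rw [← hB0]
            have e := card_sup_mul_inf (U ⊓ fixSub ρ B0) (fixSub ρ A)
            rw [inf_assoc, inf_eq_right.2 (fixSub_anti ρ hBA)] at e
            have hle : Nat.card ↥((U ⊓ fixSub ρ B0) ⊔ fixSub ρ A) ≤ Nat.card (fixSub ρ B0) :=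
              Nat.card_le_card_of_injective _ (Submodule.inclusion_injective (sup_le inf_le_right (fixSub_anti ρ hBA)))
            have hb := hD.best B0 hBA
            unfold meas at hb
            refine Nat.le_of_mul_le_mul_left (c := Nat.card (fixSub ρ A)) ?_ Nat.card_pos
            calc Nat.card (fixSub ρ A) * (Nat.card B0 * Nat.card ↥(U ⊓ fixSub ρ B0))
                = Nat.card B0 * (Nat.card ↥(U ⊓ fixSub ρ B0) * Nat.card (fixSub ρ A)) := by ring
              _ ≤ Nat.card B0 * (Nat.card (fixSub ρ B0) * Nat.card ↥(U ⊓ fixSub ρ A)) := by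
                  rw [e]; exact Nat.mul_le_mul_left _ (Nat.mul_le_mul_right _ hle)
              _ = (Nat.card B0 * Nat.card (fixSub ρ B0)) * Nat.card ↥(U ⊓ fixSub ρ A) := by ring
              _ ≤ (Nat.card A * Nat.card (fixSub ρ A)) * Nat.card ↥(U ⊓ fixSub ρ A) := Nat.mul_le_mul_right _ hb
              _ = _ := by ring }
      have hlt : Nat.card U < Nat.card V := by
        have hss : (U : Set V) ⊂ Set.univ := Set.ssubset_univ_iff.2 fun h => hUtop (SetLike.coe_injective (h.trans Submodule.top_coe.symm))
        have := Set.Finite.card_lt_card (Set.toFinite _) hss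
        rwa [Nat.card_congr (Equiv.Set.univ V)] at this
      have hcA : Nat.card (A.subgroupOf H) = Nat.card A := Nat.card_congr (Subgroup.subgroupOfEquivOfLe hAH).toEquiv
      have hres := ih (Nat.card (A.subgroupOf H) + Nat.card U) (by omega) hD' rfl ⟨a0, hAH ha0⟩ ha0
      refine hm0 (Subgroup.mem_normalizer_iff.2 fun g => ⟨fun hg => ?_, fun hg => ?_⟩)
      · exact (Subgroup.mem_normalizer_iff.1 hres ⟨g, hKH hg⟩).1 hg
      · have hgH : g ∈ H := by
          have := H.mul_mem (H.mul_mem (H.inv_mem (hAH ha0)) (hKH hg)) (hAH ha0)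
          rwa [show a0⁻¹ * (a0 * g * a0⁻¹) * a0 = g by group] at this
        exact (Subgroup.mem_normalizer_iff.1 hres ⟨g, hgH⟩).2 hg
    have hC : Counter ρ A K := { toData := hD, moves := ⟨a0, ha0, hm0⟩, small := hsmall, irr := hirr }
    by_cases hp2 : p = 2
    · subst hp2
      exact hC.two_false
    · exact hC.odd_false hp2

/-- The P(G,V)-theorem: a best offender normalises every component. -/
theorem normalizes_component {G : Type u} [Group G] [Finite G] {V : Type v} [AddCommGroup V] [Module (ZMod p) V]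
    [Finite V] (ρ : Representation (ZMod p) G V) (hρ : Function.Injective ρ) (A : Subgroup G)
    (hab : ∀ a ∈ A, ∀ b ∈ A, a * b = b * a) (hexp : ∀ a ∈ A, a ^ p = 1)
    (hbest : ∀ B ≤ A, meas ρ B ≤ meas ρ A) (K : Subgroup G) (hK : Cfsg.IsComponent K) :
    A ≤ Subgroup.normalizer (K : Set G) := by
  intro a ha
  refine data_normalizes (p := p) _ ⟨hK.2, hab, hexp, fun a _ => ?_, ?_, hbest⟩ rfl a ha
  · rcases CfsgLib.Components.components_eq_or_commute (CfsgLib.Components.isComponent_map_equiv (MulAut.conj a) hK) hK with h | h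
    · refine Or.inl (Subgroup.mem_normalizer_iff.2 fun g => ⟨fun hg => ?_, fun hg => ?_⟩)
      · exact h.le ⟨g, hg, rfl⟩
      · obtain ⟨g', hg', he⟩ := h.ge hg
        rwa [← (MulAut.conj a).injective (he : MulAut.conj a g' = MulAut.conj a g)]
    · exact Or.inr fun g hg f hf => (Subgroup.commutator_eq_bot_iff_le_centralizer.1 h ⟨g, hg, rfl⟩ f hf).symm
  · obtain ⟨g, hg, hne⟩ : ∃ g ∈ K, g ≠ 1 := by
      by_contra h
      push Not at h
      exact CfsgLib.Components.IsQuasisimple.ne_bot hK.2 (eq_bot_iff.2 fun g hg => Subgroup.mem_bot.2 (h g hg))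
    exact ⟨g, hg, fun h => hne (hρ (h.trans (map_one ρ).symm))⟩

end CfsgLib.LocalEvenB.PGV
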