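import Cfsg.Agent.Lib.LocalEvenB.PGV.Setting

/-!
# The P(G,V)-theorem: odd primes
-/

set_option autoImplicit false
set_option linter.all false
set_option maxHeartbeats 800000

namespace CfsgLib.LocalEvenB.PGV

universe u v

variable {G : Type u} [Group G] [Finite G] {p : ℕ} [hp : Fact p.Prime]
  {V : Type v} [AddCommGroup V] [Module (ZMod p) V] [Finite V]
  {ρ : Representation (ZMod p) G V} {A K : Subgroup G}

/-- A property of all noncentral elements of order prime to `p` contradicting the motion. -/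
theorem Data.moved_contra (hC : Data ρ A K) {a : G} (ha : a ∈ A) (hm : a ∉ Subgroup.normalizer (K : Set G))
    (h : ∀ z ∈ K, (orderOf z).Coprime p → (∃ u ∈ K, u * z ≠ z * u) → ρ (a * z * a⁻¹) = ρ z) : False :=
  hC.moved ha hm fun g hg =>
    qs_gen hC.qs (p := p) (MonoidHom.eqLocus (ρ.comp (MulAut.conj a).toMonoidHom) ρ) h hg

theorem inv_moves {a : G} (hm : a ∉ Subgroup.normalizer (K : Set G)) : a⁻¹ ∉ Subgroup.normalizer (K : Set G) :=
  fun h => hm (inv_inv a ▸ (Subgroup.normalizer (K : Set G)).inv_mem h)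

/-- A quadratic element cannot move `K`. -/
theorem Data.odd_quadratic (hC : Data ρ A K) (hp2 : p ≠ 2) {a : G} (ha : a ∈ A)
    (hm : a ∉ Subgroup.normalizer (K : Set G)) (hq : (ρ a - 1) * (ρ a - 1) = 0) : False := by
  refine hC.moved_contra ha hm fun z hz hzo _ => ?_
  obtain ⟨n, hn⟩ : ∃ n, n = ρ a - 1 := ⟨_, rfl⟩
  rw [← hn] at hq
  have h1 : ρ a = 1 + n := by rw [hn]; abel
  have h2 : ρ a⁻¹ = 1 - n := by
    have : ρ a⁻¹ * (1 + n) = 1 := by rw [← h1, ← map_mul, inv_mul_cancel, map_one]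
    calc ρ a⁻¹ = ρ a⁻¹ * ((1 + n) * (1 - n)) := by simp [add_mul, mul_sub, hq]
      _ = 1 - n := by rw [← mul_assoc, this, one_mul]
  obtain ⟨Z, hZ⟩ : ∃ Z, Z = ρ z := ⟨_, rfl⟩
  have hc1 : Z * ((1 + n) * Z * (1 - n)) = (1 + n) * Z * (1 - n) * Z := by
    rw [hZ, ← h1, ← h2, ← map_mul, ← map_mul, ← map_mul, ← map_mul,
      ((hC.dicho a ha).resolve_left hm) z hz z hz]
  have hc2 : Z * ((1 - n) * Z * (1 + n)) = (1 - n) * Z * (1 + n) * Z := by
    rw [hZ, ← h1, ← h2, ← map_mul, ← map_mul, ← map_mul, ← map_mul]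
    have := ((hC.dicho a⁻¹ (A.inv_mem ha)).resolve_left (inv_moves hm)) z hz z hz
    rw [inv_inv] at this
    rw [this]
  obtain ⟨X, hX⟩ : ∃ X, X = Z * (n * Z - Z * n) - (n * Z - Z * n) * Z := ⟨_, rfl⟩
  have h2X : 2 • X = 0 := by
    have := congrArg₂ (· - ·) hc1 hc2
    rw [hX, ← sub_eq_zero]
    rw [← sub_eq_zero] at this
    simp only [mul_add, add_mul, mul_sub, sub_mul, mul_one, one_mul, two_nsmul, ← mul_assoc] at this ⊢
    rw [sub_zero]
    rw [← this]
    abel
  have hX0 : X = 0 := eq_zero_of_nsmul ((Nat.coprime_primes Nat.prime_two hp.out).2 (Ne.symm hp2)) X h2X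
  rw [hX, sub_eq_zero] at hX0
  obtain ⟨Z', hZ'⟩ : ∃ Z', Z' = ρ z⁻¹ := ⟨_, rfl⟩
  have e1 : Z * Z' = 1 := by rw [hZ, hZ', ← map_mul, mul_inv_cancel, map_one]
  have e2 : Z' * Z = 1 := by rw [hZ, hZ', ← map_mul, inv_mul_cancel, map_one]
  obtain ⟨ε, hε⟩ : ∃ ε, ε = Z * n * Z' - n := ⟨_, rfl⟩
  have hεfix : Z * ε = ε * Z := by
    have e3 : ε * Z = Z * n - n * Z := by rw [hε, sub_mul, mul_assoc _ Z' Z, e2, mul_one]
    have e4 : Z * (ε * Z) = ε * Z * Z := by
      rw [e3]
      have := congrArg Neg.neg hX0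
      rwa [← mul_neg, ← neg_mul, neg_sub] at this
    calc Z * ε = Z * (ε * Z) * Z' := by rw [mul_assoc, mul_assoc ε Z Z', e1, mul_one]
      _ = ε * Z := by rw [e4, mul_assoc, e1, mul_one]
  have hiter : ∀ i : ℕ, Z ^ i * n * Z' ^ i = n + i • ε := by
    intro i
    induction i with
    | zero => simp
    | succ i ih =>
      rw [pow_succ', pow_succ, show Z * Z ^ i * n * (Z' ^ i * Z') = Z * (Z ^ i * n * Z' ^ i) * Z' by
        simp only [mul_assoc], ih, mul_add, add_mul, show Z * n * Z' = n + ε by rw [hε]; abel, mul_smul_comm, hεfix,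
        smul_mul_assoc, mul_assoc, e1, mul_one, succ_nsmul]
      abel
  have hm' := hiter (orderOf z)
  rw [hZ, hZ', rho_pow_orderOf, ← orderOf_inv z, rho_pow_orderOf, one_mul, mul_one, orderOf_inv, left_eq_add] at hm'
  have hε0 := eq_zero_of_nsmul hzo ε hm'
  have hzn : Z * n = n * Z := by
    have : ε * Z = 0 := by rw [hε0, zero_mul]
    rwa [hε, sub_mul, mul_assoc _ Z' Z, e2, mul_one, sub_eq_zero] at this
  rw [map_mul, map_mul, h1, h2, ← hZ, add_mul, one_mul, ← hzn, mul_sub, mul_one, add_mul, mul_assoc Z n n, hq, mul_zero]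
  abel

/-- The partial norms `z ⬝ a z a⁻¹ ⬝ ⋯`. -/
def part (a : G) : ℕ → G → G
  | 0, _ => 1
  | k + 1, z => part a k z * (a ^ k * z * (a ^ k)⁻¹)

theorem part_shift (a : G) (z : G) : ∀ k, part a (k + 1) z = z * (a * part a k z * a⁻¹)
  | 0 => by simp [part]
  | k + 1 => by
    conv_lhs => rw [part, part_shift a z k]
    rw [part, pow_succ']
    group

/-- An element annihilating the commutators and nontrivial on `K` cannot coexist with a moving element. -/
theorem Data.odd_annihilator (hC : Data ρ A K) (hp2 : p ≠ 2) {a b : G} (ha : a ∈ A)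
    (hm : a ∉ Subgroup.normalizer (K : Set G)) (hb : b ∈ A) (hbN : b ∈ Subgroup.normalizer (K : Set G))
    (hbK : ¬ ∀ g ∈ K, b * g = g * b) (hann : ρ b * (ρ a - 1) = ρ a - 1) : False := by
  classical
  have hap : a ^ p = 1 := hC.exp a ha
  let c : ℕ → G → G := fun i z => a ^ i * z * (a ^ i)⁻¹
  have hc0 : ∀ z, c 0 z = z := fun z => by simp [c]
  have hcp : ∀ i z, c (p + i) z = c i z := fun i z => by simp [c, pow_add, hap]
  have hpow : ∀ i, 0 < i → i < p → a ^ i ∉ Subgroup.normalizer (K : Set G) := by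
    intro i hi hip h
    refine hm ?_
    have hco : (orderOf a).Coprime i := (Nat.Coprime.coprime_dvd_left (orderOf_dvd_of_pow_eq_one hap)
      (hp.out.coprime_iff_not_dvd.2 fun hd => absurd (Nat.le_of_dvd hi hd) (not_le.2 hip)))
    obtain ⟨m, hm'⟩ := exists_pow_eq_self_of_coprime hco.symm
    rw [← hm']
    exact Subgroup.pow_mem _ h m
  have hcc : ∀ i j, i < p → j < p → i ≠ j → ∀ z ∈ K, ∀ w ∈ K, c i z * c j w = c j w * c i z := by
    have key : ∀ i j, i < j → j < p → ∀ z ∈ K, ∀ w ∈ K, c j w * c i z = c i z * c j w := by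
      intro i j hij hj z hz w hw
      have := ((hC.dicho _ (A.pow_mem ha (j - i))).resolve_left (hpow _ (by omega) (by omega))) w hw z hz
      have e : c j w = a ^ i * (a ^ (j - i) * w * (a ^ (j - i))⁻¹) * (a ^ i)⁻¹ := by
        simp only [c]
        rw [show a ^ j = a ^ i * a ^ (j - i) by rw [← pow_add]; congr 1; omega]
        group
      rw [e]
      calc a ^ i * (a ^ (j - i) * w * (a ^ (j - i))⁻¹) * (a ^ i)⁻¹ * (a ^ i * z * (a ^ i)⁻¹)
          = a ^ i * (a ^ (j - i) * w * (a ^ (j - i))⁻¹ * z) * (a ^ i)⁻¹ := by group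
        _ = _ := by rw [this]; simp only [c]; group
    intro i j hi hj hne z hz w hw
    rcases Nat.lt_or_ge i j with h | h
    · exact (key i j h hj z hz w hw).symm
    · exact key j i (by omega) hi w hw z hz
  have hpart : ∀ k z, part a (k + 1) z = part a k z * c k z := fun k z => rfl
  have hcomm : ∀ k, ∀ j, k ≤ j → j < p → ∀ z ∈ K, ∀ w ∈ K, c j z * part a k w = part a k w * c j z := by
    intro k
    induction k with
    | zero => intros; simp [part]
    | succ k ih =>
      intro j hkj hj z hz w hw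
      rw [hpart, ← mul_assoc, ih j (by omega) hj z hz w hw, mul_assoc, hcc j k hj (by omega) (by omega) z hz w hw,
        ← mul_assoc]
  have hhom : ∀ k, k ≤ p → ∀ z ∈ K, ∀ w ∈ K, part a k (z * w) = part a k z * part a k w := by
    intro k
    induction k with
    | zero => intros; simp [part]
    | succ k ih =>
      intro hk z hz w hw
      rw [hpart, hpart, hpart, ih (by omega) z hz w hw, show c k (z * w) = c k z * c k w by simp only [c]; group]
      have h1 := hcomm k k le_rfl (by omega) z hz w hw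
      calc part a k z * part a k w * (c k z * c k w) = part a k z * (part a k w * c k z) * c k w := by group
        _ = part a k z * (c k z * part a k w) * c k w := by rw [h1]
        _ = _ := by group
  have hbeq : ∀ k z, part a k (b * z * b⁻¹) = b * part a k z * b⁻¹ := by
    intro k z
    induction k with
    | zero => simp [part]
    | succ k ih =>
      have hba : b * a ^ k = a ^ k * b := (Commute.pow_right (hC.comm b hb a ha : Commute b a) k).eq
      rw [hpart, hpart, ih]
      have h1 : c k (b * z * b⁻¹) = b * c k z * b⁻¹ := by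
        simp only [c]
        calc a ^ k * (b * z * b⁻¹) * (a ^ k)⁻¹ = (a ^ k * b) * z * (a ^ k * b)⁻¹ := by group
          _ = (b * a ^ k) * z * (b * a ^ k)⁻¹ := by rw [hba]
          _ = _ := by group
      rw [h1]; group
  have hin : ∀ u ∈ K, ∀ k, k < p → ∀ z ∈ K, u * (a * part a k z * a⁻¹) = a * part a k z * a⁻¹ * u := by
    intro u hu k
    induction k with
    | zero => intros; simp [part]
    | succ k ih =>
      intro hk z hz
      have e : a * part a (k + 1) z * a⁻¹ = a * part a k z * a⁻¹ * c (k + 1) z := by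
        rw [hpart]; simp only [c, pow_succ']; group
      rw [e, ← mul_assoc, ih (by omega) z hz, mul_assoc, ← hc0 u, hcc 0 (k + 1) hp.out.pos hk (by omega) u hu z hz,
        ← mul_assoc]
  obtain ⟨q, hq⟩ : ∃ q, p = q + 1 := ⟨p - 1, (Nat.sub_one_add_one hp.out.ne_zero).symm⟩
  let R : G → G := fun z => a * part a q z * a⁻¹
  have hPR : ∀ z, part a p z = z * R z := fun z => by rw [hq]; exact part_shift a z q
  have hRK : ∀ u ∈ K, ∀ z ∈ K, u * R z = R z * u := fun u hu z hz => hin u hu q (by omega) z hz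
  have hcyc : ∀ z ∈ K, a * part a p z * a⁻¹ = part a p z := fun z hz => by
    have e : a * part a p z * a⁻¹ = R z * z := by
      conv_lhs => rw [hq, hpart, show a * (part a q z * c q z) * a⁻¹ = a * part a q z * a⁻¹ * c (q + 1) z by
        simp only [c, pow_succ']; group]
      rw [← hq, show c p z = z by simp [c, hap]]
    rw [e, hPR, hRK z hz z hz]
  obtain ⟨n, hn⟩ : ∃ n, n = ρ a - 1 := ⟨_, rfl⟩
  rw [← hn] at hann
  have hna : ∀ z ∈ K, ρ (part a p z) * n = n * ρ (part a p z) := fun z hz => by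
    rw [hn, mul_sub, sub_mul, mul_one, one_mul, ← map_mul, ← map_mul]
    congr 2
    conv_lhs => rw [← hcyc z hz]
    group
  -- the norms fix the image of `a - 1`
  let S : Subgroup G :=
    { carrier := {g | g ∈ K ∧ ρ (part a p g) * n = n}
      one_mem' := ⟨K.one_mem, by
        have h1 := hhom p le_rfl 1 K.one_mem 1 K.one_mem
        rw [mul_one, left_eq_mul] at h1
        rw [h1, map_one, one_mul]⟩
      mul_mem' := fun {x y} hx hy => ⟨K.mul_mem hx.1 hy.1, by
        rw [hhom p le_rfl x hx.1 y hy.1, map_mul, mul_assoc, hy.2, hx.2]⟩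
      inv_mem' := fun {x} hx => ⟨K.inv_mem hx.1, by
        conv_lhs => rw [← hx.2]
        rw [← mul_assoc, ← map_mul, ← hhom p le_rfl _ (K.inv_mem hx.1) x hx.1, inv_mul_cancel]
        have h1 := hhom p le_rfl 1 K.one_mem 1 K.one_mem
        rw [mul_one, left_eq_mul] at h1
        rw [h1, map_one, one_mul]⟩ }
  have hSK : K ≤ S := by
    refine (qs_comm hC.qs S (fun u hu g hg hgS => ⟨K.mul_mem (K.mul_mem hu hg) (K.inv_mem hu), ?_⟩) b
      (fun g hg => conj_mem_of_normalizer hbN hg) fun z hz => ⟨K.mul_mem (conj_mem_of_normalizer hbN hz) (K.inv_mem hz), ?_⟩).resolve_right hbK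
    · rw [hhom p le_rfl _ (K.mul_mem hu hg) _ (K.inv_mem hu), hhom p le_rfl u hu g hg, map_mul, map_mul, mul_assoc,
        hna _ (K.inv_mem hu), ← mul_assoc, mul_assoc _ (ρ (part a p g)) n, hgS.2, hna u hu, mul_assoc, ← map_mul,
        ← hhom p le_rfl u hu _ (K.inv_mem hu), mul_inv_cancel]
      have h1 := hhom p le_rfl 1 K.one_mem 1 K.one_mem
      rw [mul_one, left_eq_mul] at h1
      rw [h1, map_one, mul_one]
    · have hbi : ρ b⁻¹ * n = n := by
        conv_lhs => rw [← hann, ← mul_assoc, ← map_mul, inv_mul_cancel, map_one, one_mul]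
      rw [hhom p le_rfl _ (conj_mem_of_normalizer hbN hz) _ (K.inv_mem hz), hbeq, map_mul, map_mul, map_mul,
        mul_assoc, hna _ (K.inv_mem hz), ← mul_assoc, mul_assoc (ρ b * ρ (part a p z)), hbi, mul_assoc (ρ b), hna z hz,
        ← mul_assoc, hann, mul_assoc, ← map_mul, ← hhom p le_rfl z hz _ (K.inv_mem hz), mul_inv_cancel]
      have h1 := hhom p le_rfl 1 K.one_mem 1 K.one_mem
      rw [mul_one, left_eq_mul] at h1
      rw [h1, map_one, mul_one]
  -- basic identity
  have hid : ∀ z ∈ K, ρ (part a p z) * (ρ z - ρ (c 1 z)) = ρ z - ρ (c 1 z) := by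
    intro z hz
    have hZn : ρ (part a p z) * ρ a = ρ (part a p z) + ρ a - 1 := by
      have := (hSK hz).2
      rw [hn, mul_sub, mul_one, sub_eq_iff_eq_add] at this
      rw [this]; abel
    have hzP : z * part a p z = part a p z * z := by
      rw [hPR, ← mul_assoc]
      conv_rhs => rw [mul_assoc, ← hRK z hz z hz, ← mul_assoc]
    have hz1P : c 1 z * part a p z = part a p z * c 1 z := by
      have h1 := congrArg (fun x => a * x * a⁻¹) hzP
      beta_reduce at h1
      rw [show a * (z * part a p z) * a⁻¹ = c 1 z * (a * part a p z * a⁻¹) by simp [c],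
        show a * (part a p z * z) * a⁻¹ = a * part a p z * a⁻¹ * c 1 z by simp [c], hcyc z hz] at h1
      exact h1
    -- conjugate by `z`
    have hw : ρ z * ρ a * ρ z⁻¹ = ρ z * ρ (c 1 z)⁻¹ * ρ a := by
      simp only [← map_mul]
      congr 1
      simp [c]
      group
    have hwP : ρ (part a p z) * (ρ z * ρ (c 1 z)⁻¹) = ρ z * ρ (c 1 z)⁻¹ * ρ (part a p z) := by
      simp only [← map_mul]
      congr 1
      rw [← mul_assoc, ← hzP, mul_assoc, mul_assoc, (Commute.inv_left (hz1P : Commute (c 1 z) (part a p z))).eq]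
    have hzc : ρ (part a p z) * ρ z = ρ z * ρ (part a p z) := by rw [← map_mul, ← map_mul, hzP]
    have hzi : ρ z * ρ z⁻¹ = 1 := by rw [← map_mul, mul_inv_cancel, map_one]
    have h2 : ρ (part a p z) * (ρ z * ρ (c 1 z)⁻¹ * ρ a) = ρ (part a p z) + ρ z * ρ (c 1 z)⁻¹ * ρ a - 1 := by
      rw [← hw, ← mul_assoc, ← mul_assoc, hzc, mul_assoc (ρ z), hZn, mul_sub, sub_mul, mul_add, add_mul, mul_one, hzi,
        mul_assoc (ρ z) (ρ (part a p z)), ← map_mul, ← map_mul, ← map_mul]
      rw [show z * (part a p z * z⁻¹) = part a p z by rw [← mul_assoc, hzP, mul_inv_cancel_right]]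
    rw [← mul_assoc, hwP, mul_assoc, hZn, mul_sub, mul_add, mul_one, ← hwP] at h2
    have h3 : ρ (part a p z) * (ρ z * ρ (c 1 z)⁻¹) = ρ (part a p z) + ρ z * ρ (c 1 z)⁻¹ - 1 := by
      linear_combination (norm := abel) h2
    have hci : ρ (c 1 z)⁻¹ * ρ (c 1 z) = 1 := by rw [← map_mul, inv_mul_cancel, map_one]
    have h4 := congrArg (· * ρ (c 1 z)) h3
    simp only [sub_mul, add_mul, one_mul, mul_assoc, hci, mul_one] at h4
    rw [mul_sub, h4]; abel
  -- all differences of conjugates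
  have hdiff : ∀ z ∈ K, ∀ j, ρ (part a p z) * (ρ z - ρ (c j z)) = ρ z - ρ (c j z) := by
    intro z hz j
    induction j with
    | zero => simp [hc0]
    | succ j ih =>
      have h1 := congrArg (fun X => ρ (a ^ j) * X * ρ (a ^ j)⁻¹) (hid z hz)
      have hP : ρ (a ^ j) * ρ (part a p z) = ρ (part a p z) * ρ (a ^ j) := by
        rw [← map_mul, ← map_mul]
        congr 1
        exact (Commute.pow_left (show Commute a (part a p z) by
          show a * part a p z = part a p z * a
          conv_rhs => rw [← hcyc z hz]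
          group) j).eq
      have e : ρ (a ^ j) * (ρ z - ρ (c 1 z)) * ρ (a ^ j)⁻¹ = ρ (c j z) - ρ (c (j + 1) z) := by
        simp only [mul_sub, sub_mul, ← map_mul]
        congr 2
        simp only [c, pow_succ, pow_one]; group
      beta_reduce at h1
      rw [← mul_assoc, hP, mul_assoc, mul_assoc, ← mul_assoc (ρ (a ^ j)), e] at h1
      rw [show ρ z - ρ (c (j + 1) z) = (ρ z - ρ (c j z)) + (ρ (c j z) - ρ (c (j + 1) z)) by abel, mul_add, ih, h1]
  refine hC.moved_contra ha hm fun z hz hzo hnc => ?_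
  -- the other conjugates are fixed by `z`
  have hfix : ∀ j k, 0 < j → j < p → 0 < k → k < p → ρ z * (ρ (c j z) - ρ (c k z)) = ρ (c j z) - ρ (c k z) := by
    intro j k hj hjp hk hkp
    obtain ⟨P, hP⟩ : ∃ P, P = ρ (c j z) - ρ (c k z) := ⟨_, rfl⟩
    rw [← hP]
    have hPu : ∀ u ∈ K, ρ u * P = P * ρ u := fun u hu => by
      rw [hP, mul_sub, sub_mul, ← map_mul, ← map_mul, ← map_mul, ← map_mul, ← hc0 u,
        hcc 0 j hp.out.pos hjp (by omega) u hu z hz, hcc 0 k hp.out.pos hkp (by omega) u hu z hz]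
    have hPP : ρ z * (ρ (R z) * P) = P := by
      rw [← mul_assoc, ← map_mul, ← hPR, hP, show ρ (c j z) - ρ (c k z) = (ρ z - ρ (c k z)) - (ρ z - ρ (c j z)) by abel,
        mul_sub, hdiff z hz k, hdiff z hz j]
    refine (qs_z hC.qs (stab ρ P) (fun u hu g hg hgS => ?_) hz fun u hu => ?_).elim (fun h => h hz) fun h => ?_
    · show ρ (u * g * u⁻¹) * P = P
      rw [map_mul, map_mul, mul_assoc, hPu _ (K.inv_mem hu), ← mul_assoc, mul_assoc (ρ u), (hgS : ρ g * P = P),
        hPu u hu, mul_assoc, ← map_mul, mul_inv_cancel, map_one, mul_one]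
    · show ρ (u * z * u⁻¹ * z⁻¹) * P = P
      have h1 : ρ (u * z * u⁻¹) * (ρ (R z) * P) = P := by
        rw [map_mul, map_mul, mul_assoc, ← mul_assoc (ρ u⁻¹), ← map_mul ρ u⁻¹ (R z), hRK _ (K.inv_mem hu) z hz, map_mul, mul_assoc,
          mul_assoc (ρ (R z)), hPu _ (K.inv_mem hu), ← mul_assoc (ρ (R z)), ← mul_assoc (ρ z), hPP, ← mul_assoc, hPu u hu,
          mul_assoc, ← map_mul, mul_inv_cancel, map_one, mul_one]
      calc ρ (u * z * u⁻¹ * z⁻¹) * P = ρ (u * z * u⁻¹ * z⁻¹) * (ρ z * (ρ (R z) * P)) := by rw [hPP]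
        _ = ρ (u * z * u⁻¹) * (ρ (R z) * P) := by rw [← mul_assoc, ← map_mul, inv_mul_cancel_right]
        _ = P := h1
    · obtain ⟨u, hu, hne⟩ := hnc
      exact absurd (h u hu) hne
  -- shift
  have hshift : ∀ i j k, 0 < j → j < p → 0 < k → k < p →
      ρ (c i z) * (ρ (c (i + j) z) - ρ (c (i + k) z)) = ρ (c (i + j) z) - ρ (c (i + k) z) := by
    intro i j k hj hjp hk hkp
    have e : ∀ l, ρ (c (i + l) z) = ρ (a ^ i) * ρ (c l z) * ρ (a ^ i)⁻¹ := fun l => by
      simp only [← map_mul, c, pow_add]; congr 1; group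
    have e0 : ρ (c i z) = ρ (a ^ i) * ρ z * ρ (a ^ i)⁻¹ := by simp only [← map_mul, c]
    have ei : ρ (a ^ i)⁻¹ * ρ (a ^ i) = 1 := by rw [← map_mul, inv_mul_cancel, map_one]
    rw [e j, e k, ← sub_mul, ← mul_sub, e0]
    conv_rhs => rw [← hfix j k hj hjp hk hkp]
    simp only [mul_assoc]
    rw [← mul_assoc (ρ (a ^ i)⁻¹) (ρ (a ^ i)), ei, one_mul]
  have hp3 : 3 ≤ p := by have := hp.out.two_le; omega
  obtain ⟨P, hP⟩ : ∃ P, P = ρ (c 1 z) - ρ (c 2 z) := ⟨_, rfl⟩
  have hI : ∀ i, 3 ≤ i → i < p → ρ (c i z) * P = P := fun i h3 hip => by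
    have := hshift i (p + 1 - i) (p + 2 - i) (by omega) (by omega) (by omega) (by omega)
    rwa [show i + (p + 1 - i) = p + 1 by omega, show i + (p + 2 - i) = p + 2 by omega, hcp, hcp, ← hP] at this
  have h0 : ρ z * P = P := hP ▸ hfix 1 2 (by omega) (by omega) (by omega) (by omega)
  have hk3 : ∀ k, k + 3 ≤ p → ρ (part a (k + 3) z) * P = ρ (part a 3 z) * P := by
    intro k
    induction k with
    | zero => intro; rfl
    | succ k ih =>
      intro hk
      rw [show k + 1 + 3 = k + 3 + 1 by omega, hpart, map_mul, mul_assoc, hI (k + 3) (by omega) (by omega), ih (by omega)]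
  obtain ⟨x, hx⟩ : ∃ x, x = ρ (c 1 z) := ⟨_, rfl⟩
  obtain ⟨y, hy⟩ : ∃ y, y = ρ (c 2 z) := ⟨_, rfl⟩
  rw [← hx, ← hy] at hP
  have cxy : x * y = y * x := by
    rw [hx, hy, ← map_mul, ← map_mul, hcc 1 2 (by omega) (by omega) (by omega) z hz z hz]
  have czx : ρ z * x = x * ρ z := by
    rw [hx, ← map_mul, ← map_mul]; congr 1; rw [← hc0 z]; simpa [hc0] using hcc 0 1 (by omega) (by omega) (by omega) z hz z hz
  have czy : ρ z * y = y * ρ z := by
    rw [hy, ← map_mul, ← map_mul]; congr 1; simpa [hc0] using hcc 0 2 (by omega) (by omega) (by omega) z hz z hz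
  have hxyP : x * (y * P) = P := by
    have h1 : ρ (part a p z) * P = P := by
      rw [hP, hx, hy, show ρ (c 1 z) - ρ (c 2 z) = (ρ z - ρ (c 2 z)) - (ρ z - ρ (c 1 z)) by abel, mul_sub,
        hdiff z hz 2, hdiff z hz 1]
    have h3 := hk3 (p - 3) (by omega)
    rw [show p - 3 + 3 = p by omega, h1] at h3
    rw [hpart, hpart, hpart, show part a 0 z = 1 from rfl, one_mul, hc0, map_mul, map_mul, ← hx, ← hy, czx,
      mul_assoc, mul_assoc, ← mul_assoc (ρ z), czy, mul_assoc, h0] at h3
    exact h3.symm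
  have hxP0 : x * (y - ρ z) = y - ρ z := by
    have := hshift 1 1 (p - 1) one_pos (by omega) (by omega) (by omega)
    rw [show 1 + (p - 1) = p + 0 by omega, hcp, hc0, ← hx, ← hy] at this
    exact this
  have hsum : x * P + y * P = P + P := by
    have h1 := congrArg (· * P) hxP0
    beta_reduce at h1
    rw [mul_assoc, sub_mul, h0, mul_sub, hxyP] at h1
    linear_combination (norm := abel) (-1 : ℤ) • h1
  obtain ⟨m, hmd⟩ : ∃ m, m = orderOf z := ⟨_, rfl⟩
  have hord : ∀ i, ρ (c i z) ^ m = 1 := fun i => by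
    rw [← map_pow, show c i z = MulAut.conj (a ^ i) z from rfl, ← map_pow, hmd, pow_orderOf_eq_one, map_one, map_one]
  have hco : m.Coprime p := hmd ▸ hzo
  have hxP : x * P = P := by
    have h1 : (x - 1) * ((x - 1) * P) = 0 := by
      have h2 := congrArg (x * ·) hsum
      simp only [mul_add, hxyP] at h2
      simp only [sub_mul, one_mul, mul_sub]
      linear_combination (norm := abel) h2
    have h2 := fix_of_pow hco (hx ▸ hord 1) h1
    rwa [sub_mul, one_mul, sub_eq_zero] at h2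
  have hyP : y * P = P := by
    rw [hxP] at hsum
    exact add_left_cancel hsum
  have hPP : P * P = 0 := by rw [show P * P = (x - y) * P by rw [← hP], sub_mul, hxP, hyP, sub_self]
  have hxy : x = y := by
    obtain ⟨y', hy'⟩ : ∃ y', y' = ρ (c 2 z)⁻¹ := ⟨_, rfl⟩
    have e1 : y * y' = 1 := by rw [hy, hy', ← map_mul, mul_inv_cancel, map_one]
    have e2 : y' * y = 1 := by rw [hy, hy', ← map_mul, inv_mul_cancel, map_one]
    have cy' : Commute x y' := calc
      x * y' = y' * (y * x) * y' := by rw [← mul_assoc, e2, one_mul]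
      _ = y' * x := by rw [← cxy, mul_assoc, mul_assoc, e1, mul_one]
    have hT : (x * y') ^ m = 1 := by
      rw [cy'.mul_pow, show x ^ m = 1 by rw [hx]; exact hord 1, one_mul]
      calc y' ^ m = y' ^ m * y ^ m := by rw [show y ^ m = 1 by rw [hy]; exact hord 2, mul_one]
        _ = 1 := by rw [← (show Commute y' y from e2.trans e1.symm).mul_pow, e2, one_pow]
    have hT1 : (x * y' - 1) = P * y' := by rw [hP, sub_mul, e1]
    have cP : y' * P = P * y' := by
      rw [hP, mul_sub, sub_mul, e1, e2, cy'.eq]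
    have := eq_one_of_sq hco hT (by rw [hT1, mul_assoc, ← mul_assoc y', cP, ← mul_assoc, ← mul_assoc, hPP, zero_mul, zero_mul])
    calc x = x * y' * y := by rw [mul_assoc, e2, mul_one]
      _ = y := by rw [this, one_mul]
  rw [hx, hy] at hxy
  have h9 := congrArg (fun X => ρ a⁻¹ * X * ρ a) hxy
  simp only [← map_mul] at h9
  rw [show a⁻¹ * c 1 z * a = z by simp only [c]; group, show a⁻¹ * c 2 z * a = a * z * a⁻¹ by simp only [c]; group] at h9
  exact h9.symm

/-- The P(G,V)-theorem for odd primes. -/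
theorem Counter.odd_false (hC : Counter ρ A K) (hp2 : p ≠ 2) : False := by
  obtain ⟨a, ha, hm⟩ := hC.moves
  rcases hC.star with h | ⟨b, hb, hbN, hbK, hann⟩
  · refine hC.toData.odd_quadratic hp2 ha hm ?_
    rw [sub_mul, h a ha a ha, one_mul, sub_self]
  · exact hC.toData.odd_annihilator hp2 ha hm hb hbN hbK (hann a ha)

end CfsgLib.LocalEvenB.PGV
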