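import Cfsg.Agent.Lib.LocalEvenB.PGV.Basic

/-!
# The P(G,V)-theorem: a minimal counterexample
-/

set_option autoImplicit false
set_option linter.all false
set_option maxHeartbeats 800000

namespace CfsgLib.LocalEvenB.PGV

universe u v

variable {G : Type u} [Group G] [Finite G] {p : ℕ} [hp : Fact p.Prime]
  {V : Type v} [AddCommGroup V] [Module (ZMod p) V] [Finite V]

/-- A best offender and a quasisimple subgroup whose conjugates under it coincide or commute. -/
structure Data (ρ : Representation (ZMod p) G V) (A K : Subgroup G) : Prop where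
  qs : Cfsg.IsQuasisimple K
  comm : ∀ a ∈ A, ∀ b ∈ A, a * b = b * a
  exp : ∀ a ∈ A, a ^ p = 1
  dicho : ∀ a ∈ A, a ∈ Subgroup.normalizer (K : Set G) ∨ ∀ g ∈ K, ∀ h ∈ K, a * g * a⁻¹ * h = h * (a * g * a⁻¹)
  nontriv : ∃ g ∈ K, ρ g ≠ 1
  best : ∀ B ≤ A, meas ρ B ≤ meas ρ A

/-- Submodules invariant under `A` and `K`. -/
def Inv (ρ : Representation (ZMod p) G V) (A K : Subgroup G) (U : Submodule (ZMod p) V) : Prop :=
  (∀ a ∈ A, ∀ x ∈ U, ρ a x ∈ U) ∧ ∀ g ∈ K, ∀ x ∈ U, ρ g x ∈ U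

/-- A minimal counterexample to the P(G,V)-theorem. -/
structure Counter (ρ : Representation (ZMod p) G V) (A K : Subgroup G) : Prop extends Data ρ A K where
  moves : ∃ a ∈ A, a ∉ Subgroup.normalizer (K : Set G)
  small : ∀ B ≤ A, (∀ C ≤ B, meas ρ C ≤ meas ρ B) → (∃ a ∈ B, a ∉ Subgroup.normalizer (K : Set G)) → B = A
  irr : ∀ U, Inv ρ A K U → U = ⊤ ∨ ∀ g ∈ K, ∀ x ∈ U, ρ g x = x

variable {ρ : Representation (ZMod p) G V} {A K : Subgroup G}

theorem conj_mem_of_normalizer {a g : G} (ha : a ∈ Subgroup.normalizer (K : Set G)) (hg : g ∈ K) :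
    a * g * a⁻¹ ∈ K := (Subgroup.mem_normalizer_iff.1 ha g).1 hg

/-- The image of a quasisimple subgroup acting nontrivially is not abelian. -/
theorem Data.not_comm_image (hC : Data ρ A K) : ¬ ∀ g ∈ K, ∀ h ∈ K, ρ g * ρ h = ρ h * ρ g := fun h => by
  obtain ⟨g, hg, hne⟩ := hC.nontriv
  exact hne (qs_hom_trivial hC.qs (ρ.comp K.subtype) (fun x y => h x x.2 y y.2) ⟨g, hg⟩)

theorem Data.moved (hC : Data ρ A K) {a : G} (ha : a ∈ A) (hm : a ∉ Subgroup.normalizer (K : Set G)) :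
    ¬ ∀ g ∈ K, ρ (a * g * a⁻¹) = ρ g := fun h => hC.not_comm_image fun g hg g' hg' => by
  rw [← h g hg, ← map_mul, ← map_mul, ((hC.dicho a ha).resolve_left hm) g hg g' hg']

theorem Data.moved_ne_one (hC : Data ρ A K) {a : G} (ha : a ∈ A) (hm : a ∉ Subgroup.normalizer (K : Set G)) :
    ρ a ≠ 1 := fun h => hC.moved ha hm fun g _ => by
  rw [map_mul, map_mul, h, one_mul, show ρ a⁻¹ = ρ a⁻¹ * ρ a by rw [h, mul_one], ← map_mul, inv_mul_cancel, map_one,
    mul_one]

/-- An element of `A` centralising `K` acts trivially. -/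
theorem Counter.cent (hC : Counter ρ A K) {c : G} (hc : c ∈ A) (hcK : ∀ g ∈ K, c * g = g * c) : ρ c = 1 := by
  obtain ⟨U, hU⟩ : ∃ U, U = LinearMap.ker (ρ c - 1) := ⟨_, rfl⟩
  have hmem : ∀ x, x ∈ U ↔ ρ c x = x := fun x => by
    rw [hU, LinearMap.mem_ker, LinearMap.sub_apply, Module.End.one_apply, sub_eq_zero]
  have hcomm : ∀ g, c * g = g * c → ∀ x ∈ U, ρ g x ∈ U := fun g hg x hx => by
    rw [hmem] at hx ⊢
    rw [← Module.End.mul_apply, ← map_mul, hg, map_mul, Module.End.mul_apply, hx]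
  rcases hC.irr U ⟨fun a ha => hcomm a (hC.comm c hc a ha), fun g hg => hcomm g (hcK g hg)⟩ with h | h
  · exact LinearMap.ext fun x => (hmem x).1 (h ▸ Submodule.mem_top)
  · exfalso
    obtain ⟨g, hg, hne⟩ := hC.nontriv
    refine hne (qs_gen hC.qs (p := p) (MonoidHom.eqLocus ρ 1) (fun z hz hzo _ => ?_) hg)
    exact axb ρ (hC.exp c hc) (hcK z hz).symm hzo fun x hx => h z hz x ((hmem x).2 hx)

/-- Either a moving element acts quadratically with all of `A`, or some element acting nontrivially and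
normalising `K` annihilates all commutators. -/
theorem Counter.star (hC : Counter ρ A K) :
    (∀ c ∈ A, ∀ d ∈ A, ρ d * (ρ c - 1) = ρ c - 1) ∨
      ∃ b ∈ A, b ∈ Subgroup.normalizer (K : Set G) ∧ (¬ ∀ g ∈ K, b * g = g * b) ∧ ∀ c ∈ A, ρ b * (ρ c - 1) = ρ c - 1 := by
  classical
  obtain ⟨h1, h2⟩ := tie hC.comm hC.best Set.univ
  obtain ⟨S, hS⟩ : ∃ S, S = repl ρ A Set.univ := ⟨_, rfl⟩
  rw [← hS] at h1 h2
  have hann : ∀ b ∈ S, ∀ c ∈ A, ρ b * (ρ c - 1) = ρ c - 1 := fun b hb c hc => LinearMap.ext fun x => by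
    rw [Module.End.mul_apply]
    rw [hS] at hb
    exact hb.2 _ ⟨c, hc, x, trivial, rfl⟩
  by_cases hm : ∃ a ∈ S, a ∉ Subgroup.normalizer (K : Set G)
  · have := hC.small S (hS ▸ inf_le_left) (fun C hle => h1 ▸ hC.best C (hle.trans (hS ▸ inf_le_left))) hm
    exact Or.inl fun c hc d hd => hann d (this ▸ hd) c hc
  push Not at hm
  -- some element of `S` acts nontrivially
  obtain ⟨b, hb, hb1⟩ : ∃ b ∈ S, ρ b ≠ 1 := by
    by_contra hall
    push Not at hall
    have htop : fixSub ρ S = ⊤ := eq_top_iff.2 fun x _ b hb => by rw [hall b hb, Module.End.one_apply]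
    obtain ⟨W, hW⟩ : ∃ W, W = Submodule.span (ZMod p) (dset ρ A (Set.univ : Set V)) := ⟨_, rfl⟩
    rw [← hW, htop] at h2
    have hWi : ∀ a ∈ A, ∀ x ∈ W, ρ a x ∈ W := fun a ha x hx => by
      have h3 : W ≤ W.comap (ρ a) := by
        conv_lhs => rw [hW]
        rw [Submodule.span_le]
        rintro _ ⟨c, hc, y, -, rfl⟩
        refine hW ▸ Submodule.subset_span ⟨c, hc, ρ a y, trivial, ?_⟩
        rw [map_sub, ← Module.End.mul_apply, ← map_mul, hC.comm c hc a ha, map_mul, Module.End.mul_apply]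
      exact h3 hx
    have hW0 : W = ⊥ := by
      refine eq_bot_of_le_aug hC.comm hC.exp W hWi (Set.toFinite (A : Set G)).toFinset (fun c hc => by simpa using hc) ?_
      conv_lhs => rw [hW]
      rw [Submodule.span_le]
      rintro _ ⟨c, hc, y, -, rfl⟩
      obtain ⟨w, hw, f, hf, rfl⟩ := Submodule.mem_sup.1 (h2 ▸ Submodule.mem_top : y ∈ W ⊔ fixSub ρ A)
      have hcm : c ∈ (Set.toFinite (A : Set G)).toFinset := by simpa using hc
      refine (Finset.le_sup (f := fun c => W.map (ρ c - 1)) hcm : W.map (ρ c - 1) ≤ _) ⟨w, hw, ?_⟩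
      rw [LinearMap.sub_apply, Module.End.one_apply, map_add, hf c hc]
      abel
    rw [hW0, bot_sup_eq] at h2
    obtain ⟨a, ha, hma⟩ := hC.moves
    refine hC.moved_ne_one ha hma (LinearMap.ext fun x => ?_)
    exact (h2 ▸ Submodule.mem_top : x ∈ fixSub ρ A) a ha
  have hbA : b ∈ A := (hS ▸ hb : b ∈ repl ρ A Set.univ).1
  exact Or.inr ⟨b, hbA, hm b hb, fun h => hb1 (hC.cent hbA h), hann b hb⟩

/-- A subgroup `C_A([U,A])` containing a moving element is all of `A`. -/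
theorem Counter.repl_eq (hC : Counter ρ A K) (U : Set V) {a : G} (ha : a ∈ repl ρ A U)
    (hm : a ∉ Subgroup.normalizer (K : Set G)) : repl ρ A U = A :=
  hC.small _ inf_le_left (fun C hle => (tie hC.comm hC.best U).1 ▸ hC.best C (hle.trans inf_le_left)) ⟨a, ha, hm⟩

end CfsgLib.LocalEvenB.PGV
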