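import Cfsg.Agent.Lib.LocalEvenB.PGV.TwoField
import Mathlib.GroupTheory.Perm.Sign

/-!
# The P(G,V)-theorem for the prime two: the four-dimensional algebra spanned by `K`
-/

set_option autoImplicit false
set_option linter.all false
set_option maxHeartbeats 800000

namespace CfsgLib.LocalEvenB.PGV

universe u v

variable {G : Type u} [Group G] [Finite G] [Fact (Nat.Prime 2)]
  {V : Type v} [AddCommGroup V] [Module (ZMod 2) V] [Finite V]
  {ρ : Representation (ZMod 2) G V} {A K : Subgroup G}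

local notation "E2" => Module.End (ZMod 2) V

/-- The graph of the anti-involution. -/
def gam (ρ : Representation (ZMod 2) G V) (A K : Subgroup G) : AddSubgroup (E2 × E2) :=
  AddSubgroup.closure {P | ∃ s ∈ cfield ρ A K, ∃ z ∈ K, P = (s * ρ z, s * ρ z⁻¹)}

/-- Membership in the span of `K`. -/
def InR (ρ : Representation (ZMod 2) G V) (A K : Subgroup G) (x : E2) : Prop := ∃ y, (x, y) ∈ gam ρ A K

open Classical in
/-- The trace on the span of `K`. -/
noncomputable def tT (ρ : Representation (ZMod 2) G V) (A K : Subgroup G) (x : E2) : E2 :=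
  if h : InR ρ A K x then x + h.choose else 0

theorem gam_induction {P : E2 × E2 → Prop} (hgen : ∀ s ∈ cfield ρ A K, ∀ z ∈ K, P (s * ρ z, s * ρ z⁻¹))
    (h0 : P 0) (hadd : ∀ u v, u ∈ gam ρ A K → v ∈ gam ρ A K → P u → P v → P (u + v)) :
    ∀ u ∈ gam ρ A K, P u := by
  intro u hu
  refine AddSubgroup.closure_induction (p := fun x _ => P x) ?_ h0 (fun x y hx hy => hadd x y hx hy)
    (fun x hx h => ?_) hu
  · rintro _ ⟨s, hs, z, hz, rfl⟩
    exact hgen s hs z hz
  · rwa [show -x = x from Prod.ext (neg_eq_of_add_eq_zero_right (end_add_self x.1)) (neg_eq_of_add_eq_zero_right (end_add_self x.2))]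

theorem gam_gen {s : E2} (hs : s ∈ cfield ρ A K) {z : G} (hz : z ∈ K) : (s * ρ z, s * ρ z⁻¹) ∈ gam ρ A K :=
  AddSubgroup.subset_closure ⟨s, hs, z, hz, rfl⟩

theorem cfield_comm_K {s : E2} (hs : s ∈ cfield ρ A K) {z : G} (hz : z ∈ K) : ρ z * s = s * ρ z :=
  (mem_cfield.1 hs).2 z hz

theorem gam_comm_cfield (hC : Counter ρ A K) : ∀ u ∈ gam ρ A K, ∀ s ∈ cfield ρ A K, u.1 * s = s * u.1 := by
  refine gam_induction (fun r hr z hz s hs => ?_) (fun s _ => by simp) (fun u v _ _ h1 h2 s hs => ?_)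
  · show r * ρ z * s = s * (r * ρ z)
    rw [mul_assoc, cfield_comm_K hs hz, ← mul_assoc, ← mul_assoc,
      show r * s = s * r from congrArg Subtype.val ((hC.cfield_isField).mul_comm ⟨r, hr⟩ ⟨s, hs⟩)]
  · rw [Prod.fst_add, add_mul, mul_add, h1 s hs, h2 s hs]

theorem gam_swap : ∀ u ∈ gam ρ A K, (u.2, u.1) ∈ gam ρ A K := by
  refine gam_induction (fun r hr z hz => ?_) (zero_mem _) (fun u v _ _ h1 h2 => add_mem h1 h2)
  have := gam_gen hr (K.inv_mem hz)
  rwa [inv_inv] at this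

theorem gam_comm_cfield' (hC : Counter ρ A K) {u : E2 × E2} (hu : u ∈ gam ρ A K) {s : E2} (hs : s ∈ cfield ρ A K) :
    u.2 * s = s * u.2 := gam_comm_cfield hC _ (gam_swap u hu) s hs

theorem gam_mul (hC : Counter ρ A K) : ∀ u ∈ gam ρ A K, ∀ v ∈ gam ρ A K, (u.1 * v.1, v.2 * u.2) ∈ gam ρ A K := by
  refine gam_induction (fun r hr z hz => ?_) (fun v _ => (by simp only [Prod.fst_zero, Prod.snd_zero, zero_mul, mul_zero]; exact zero_mem _)) (fun u u' _ _ h1 h2 v hv => ?_)
  · refine gam_induction (fun s hs w hw => ?_) (by simp only [Prod.fst_zero, Prod.snd_zero, zero_mul, mul_zero]; exact zero_mem _) (fun v v' _ _ h1 h2 => ?_)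
    · have := gam_gen (ρ := ρ) (A := A) ((cfield ρ A K).mul_mem hr hs) (K.mul_mem hz hw)
      have hrs : r * s = s * r := congrArg Subtype.val ((hC.cfield_isField).mul_comm ⟨r, hr⟩ ⟨s, hs⟩)
      convert this using 1
      refine Prod.ext ?_ ?_
      · show r * ρ z * (s * ρ w) = r * s * ρ (z * w)
        rw [map_mul, mul_assoc r, ← mul_assoc (ρ z), cfield_comm_K hs hz, mul_assoc s, ← mul_assoc r s]
      · show s * ρ w⁻¹ * (r * ρ z⁻¹) = r * s * ρ (z * w)⁻¹
        rw [hrs, mul_inv_rev, map_mul, mul_assoc s, ← mul_assoc (ρ w⁻¹), cfield_comm_K hr (K.inv_mem hw), mul_assoc r,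
          ← mul_assoc s r]
    · simp only [Prod.fst_add, Prod.snd_add, mul_add, add_mul]
      exact add_mem h1 h2
  · simp only [Prod.fst_add, Prod.snd_add, mul_add, add_mul]
    exact add_mem (h1 v hv) (h2 v hv)

theorem gam_sum_prod (hC : Counter ρ A K) : ∀ u ∈ gam ρ A K, u.1 + u.2 ∈ cfield ρ A K ∧ u.1 * u.2 ∈ cfield ρ A K := by
  refine gam_induction (fun r hr z hz => ?_) ⟨by simp, by simp⟩ (fun u v hu hv h1 h2 => ?_)
  · refine ⟨?_, ?_⟩
    · show r * ρ z + r * ρ z⁻¹ ∈ _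
      rw [← mul_add]
      exact (cfield ρ A K).mul_mem hr (hC.tr_mem hz)
    · show r * ρ z * (r * ρ z⁻¹) ∈ _
      rw [mul_assoc r, ← mul_assoc (ρ z), cfield_comm_K hr hz, mul_assoc r (ρ z), ← map_mul, mul_inv_cancel, map_one, mul_one]
      exact (cfield ρ A K).mul_mem hr hr
  · refine ⟨?_, ?_⟩
    · rw [Prod.fst_add, Prod.snd_add, add_add_add_comm]
      exact (cfield ρ A K).add_mem h1.1 h2.1
    · rw [Prod.fst_add, Prod.snd_add, add_mul, mul_add, mul_add,
        show u.1 * u.2 + u.1 * v.2 + (v.1 * u.2 + v.1 * v.2) = (u.1 * u.2 + v.1 * v.2) + (u.1 * v.2 + v.1 * u.2) by abel]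
      refine (cfield ρ A K).add_mem ((cfield ρ A K).add_mem h1.2 h2.2) ?_
      -- the cross terms are a trace
      have hm := gam_mul hC u hu _ (gam_swap v hv)
      -- `(u.1 * v.2, v.1 * u.2)` lies in the graph
      obtain ⟨s, hs⟩ : ∃ s, s = u.1 * v.2 + v.1 * u.2 := ⟨_, rfl⟩
      rw [← hs]
      rw [mem_cfield]
      have key : ∀ u ∈ gam ρ A K, u.1 + u.2 ∈ cfield ρ A K := by
        refine gam_induction (fun r hr z hz => ?_) (by simp) (fun u v _ _ h1 h2 => ?_)
        · show r * ρ z + r * ρ z⁻¹ ∈ _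
          rw [← mul_add]
          exact (cfield ρ A K).mul_mem hr (hC.tr_mem hz)
        · rw [Prod.fst_add, Prod.snd_add, add_add_add_comm]
          exact (cfield ρ A K).add_mem h1 h2
      exact mem_cfield.1 (hs ▸ key _ hm)

theorem gam_unique (hC : Counter ρ A K) {y : E2} (h : ((0 : E2), y) ∈ gam ρ A K) : y = 0 := by
  by_contra hy
  have hyC : y ∈ cfield ρ A K := by simpa using (gam_sum_prod hC _ h).1
  refine hC.toData.not_comm_image fun g hg f hf => ?_
  have h1 : ∀ w ∈ K, ρ w * y ∈ cfield ρ A K := fun w hw => by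
    have h2 := gam_mul hC _ (gam_gen (ρ := ρ) (A := A) (cfield ρ A K).one_mem (K.inv_mem hw)) _ h
    rw [one_mul, one_mul, mul_zero, inv_inv] at h2
    have := (gam_sum_prod hC _ h2).1
    rwa [zero_add, ← cfield_comm_K hyC hw] at this
  have h3 : (ρ g * ρ f) * y = (ρ f * ρ g) * y := by
    rw [mul_assoc, mul_assoc, cfield_comm_K (h1 f hf) hg, mul_assoc (ρ f), ← cfield_comm_K hyC hg]
  refine LinearMap.ext fun x => ?_
  obtain ⟨x', rfl⟩ := (hC.cfield_bij hyC hy).2 x
  exact LinearMap.congr_fun h3 x'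

variable (hC : Counter ρ A K)
include hC

theorem tT_spec {x y : E2} (h : (x, y) ∈ gam ρ A K) : tT ρ A K x = x + y := by
  have hR : InR ρ A K x := ⟨y, h⟩
  rw [tT, dif_pos hR]
  congr 1
  have := sub_mem hR.choose_spec h
  rw [Prod.mk_sub_mk, sub_self] at this
  exact sub_eq_zero.1 (gam_unique hC this)

theorem inR_mem {x : E2} (h : InR ρ A K x) : (x, x + tT ρ A K x) ∈ gam ρ A K := by
  obtain ⟨y, hy⟩ := h
  rwa [tT_spec hC hy, ← add_assoc, end_add_self, zero_add]

theorem tT_mem {x : E2} (h : InR ρ A K x) : tT ρ A K x ∈ cfield ρ A K := by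
  obtain ⟨y, hy⟩ := h
  rw [tT_spec hC hy]
  exact (gam_sum_prod hC _ hy).1

theorem inR_comm {x s : E2} (h : InR ρ A K x) (hs : s ∈ cfield ρ A K) : x * s = s * x :=
  gam_comm_cfield hC _ h.choose_spec s hs

theorem inR_add {x y : E2} (hx : InR ρ A K x) (hy : InR ρ A K y) :
    InR ρ A K (x + y) ∧ tT ρ A K (x + y) = tT ρ A K x + tT ρ A K y := by
  obtain ⟨x', hx'⟩ := hx
  obtain ⟨y', hy'⟩ := hy
  have h : (x + y, x' + y') ∈ gam ρ A K := add_mem hx' hy'
  refine ⟨⟨_, h⟩, ?_⟩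
  rw [tT_spec hC h, tT_spec hC hx', tT_spec hC hy']
  abel

theorem inR_cfield {s : E2} (hs : s ∈ cfield ρ A K) : InR ρ A K s ∧ tT ρ A K s = 0 := by
  have h := gam_gen (ρ := ρ) (A := A) hs K.one_mem
  rw [inv_one, map_one, mul_one] at h
  exact ⟨⟨_, h⟩, (tT_spec hC h).trans (end_add_self s)⟩

theorem inR_rho {z : G} (hz : z ∈ K) : InR ρ A K (ρ z) ∧ tT ρ A K (ρ z) = tr ρ z := by
  have h := gam_gen (ρ := ρ) (A := A) (cfield ρ A K).one_mem hz
  rw [one_mul, one_mul] at h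
  exact ⟨⟨_, h⟩, tT_spec hC h⟩

theorem inR_mul {x y : E2} (hx : InR ρ A K x) (hy : InR ρ A K y) :
    InR ρ A K (x * y) ∧
      x * y + y * x = tT ρ A K x * y + tT ρ A K y * x + tT ρ A K x * tT ρ A K y + tT ρ A K (x * y) := by
  have h := gam_mul hC _ (inR_mem hC hx) _ (inR_mem hC hy)
  refine ⟨⟨_, h⟩, ?_⟩
  rw [tT_spec hC h]
  obtain ⟨s, hs⟩ : ∃ s, s = tT ρ A K x := ⟨_, rfl⟩
  obtain ⟨r, hr⟩ : ∃ r, r = tT ρ A K y := ⟨_, rfl⟩
  have hsC : s ∈ cfield ρ A K := hs ▸ tT_mem hC hx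
  have hrC : r ∈ cfield ρ A K := hr ▸ tT_mem hC hy
  have h1 : y * s = s * y := inR_comm hC hy hsC
  have h3 : r * s = s * r := inR_comm hC (inR_cfield hC hrC).1 hsC
  rw [← hs, ← hr]
  simp only [mul_add, add_mul, h1, h3]
  calc x * y + y * x = x * y + y * x + (s * y + s * y) + (r * x + r * x) + (s * r + s * r) := by
        rw [end_add_self, end_add_self, end_add_self, add_zero, add_zero, add_zero]
    _ = _ := by abel

theorem inR_smul {s x : E2} (hs : s ∈ cfield ρ A K) (hx : InR ρ A K x) :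
    InR ρ A K (s * x) ∧ tT ρ A K (s * x) = s * tT ρ A K x := by
  have h1 := inR_mem hC (inR_cfield hC hs).1
  rw [(inR_cfield hC hs).2, add_zero] at h1
  have h := gam_mul hC _ h1 _ (inR_mem hC hx)
  refine ⟨⟨_, h⟩, ?_⟩
  rw [tT_spec hC h, add_mul, inR_comm hC hx hs,
    show tT ρ A K x * s = s * tT ρ A K x from inR_comm hC (inR_cfield hC (tT_mem hC hx)).1 hs, ← add_assoc,
    end_add_self, zero_add]

theorem inR_sq {x : E2} (hx : InR ρ A K x) (h0 : tT ρ A K x = 0) : x * x ∈ cfield ρ A K := by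
  have h := (gam_sum_prod hC _ (inR_mem hC hx)).2
  rwa [h0, add_zero] at h

theorem gam_conj {b : G} (hb : b ∈ A) (hbN : b ∈ Subgroup.normalizer (K : Set G)) :
    ∀ u ∈ gam ρ A K, (ρ b * u.1 * ρ b, ρ b * u.2 * ρ b) ∈ gam ρ A K := by
  refine gam_induction (fun s hs z hz => ?_) (by simp only [Prod.fst_zero, Prod.snd_zero, zero_mul, mul_zero]; exact zero_mem _) (fun u v _ _ h1 h2 => ?_)
  · have hh : b * z * b = b * z * b⁻¹ := by rw [hC.toData.inv_eq hb]
    have hzb : b * z * b ∈ K := hh ▸ conj_mem_of_normalizer hbN hz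
    have := gam_gen (ρ := ρ) (A := A) hs hzb
    convert this using 1
    refine Prod.ext ?_ ?_
    · show ρ b * (s * ρ z) * ρ b = s * ρ (b * z * b)
      rw [map_mul, map_mul, ← mul_assoc, (mem_cfield.1 hs).1 b hb, mul_assoc s, mul_assoc s]
    · show ρ b * (s * ρ z⁻¹) * ρ b = s * ρ (b * z * b)⁻¹
      rw [mul_inv_rev, mul_inv_rev, hC.toData.inv_eq hb, map_mul, map_mul, ← mul_assoc, (mem_cfield.1 hs).1 b hb,
        mul_assoc s, mul_assoc s, ← mul_assoc (ρ b)]
  · simp only [Prod.fst_add, Prod.snd_add, mul_add, add_mul]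
    exact add_mem h1 h2

theorem inR_conj {b : G} (hb : b ∈ A) (hbN : b ∈ Subgroup.normalizer (K : Set G)) {x : E2} (hx : InR ρ A K x) :
    InR ρ A K (ρ b * x * ρ b) ∧ tT ρ A K (ρ b * x * ρ b) = tT ρ A K x := by
  have h := gam_conj hC hb hbN _ (inR_mem hC hx)
  refine ⟨⟨_, h⟩, ?_⟩
  rw [tT_spec hC h]
  have h1 : ρ b * tT ρ A K x * ρ b = tT ρ A K x := by
    rw [(mem_cfield.1 (tT_mem hC hx)).1 b hb, mul_assoc, hC.toData.rho_sq hb, mul_one]
  simp only [mul_add, add_mul, h1]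
  rw [← add_assoc, end_add_self, zero_add]

theorem inR_conjK {g : G} (hg : g ∈ K) {x : E2} (hx : InR ρ A K x) :
    InR ρ A K (ρ g * x * ρ g⁻¹) ∧ tT ρ A K (ρ g * x * ρ g⁻¹) = tT ρ A K x := by
  have h1 := gam_gen (ρ := ρ) (A := A) (cfield ρ A K).one_mem hg
  have h2 := gam_gen (ρ := ρ) (A := A) (cfield ρ A K).one_mem (K.inv_mem hg)
  rw [one_mul, one_mul] at h1 h2
  rw [inv_inv] at h2
  have h := gam_mul hC _ (gam_mul hC _ h1 _ (inR_mem hC hx)) _ h2
  refine ⟨⟨_, h⟩, ?_⟩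
  rw [tT_spec hC h]
  have h1 : ρ g * (tT ρ A K x * ρ g⁻¹) = tT ρ A K x := by
    rw [← mul_assoc, cfield_comm_K (tT_mem hC hx) hg, mul_assoc, ← map_mul, mul_inv_cancel, map_one, mul_one]
  simp only [mul_add, add_mul, mul_assoc, h1]
  rw [← add_assoc, end_add_self, zero_add]

theorem inR_conj_a {a : G} (ha : a ∈ A) (hm : a ∉ Subgroup.normalizer (K : Set G)) {g : G} (hg : g ∈ K) {x : E2}
    (hx : InR ρ A K x) : ρ (a * g * a⁻¹) * x = x * ρ (a * g * a⁻¹) := by
  obtain ⟨y, hy⟩ := hx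
  refine gam_induction (P := fun u => ρ (a * g * a⁻¹) * u.1 = u.1 * ρ (a * g * a⁻¹)) (fun s hs z hz => ?_)
    (by simp) (fun u v _ _ h1 h2 => by simp only [Prod.fst_add, mul_add, add_mul, h1, h2]) _ hy
  have hcs : ρ (a * g * a⁻¹) * s = s * ρ (a * g * a⁻¹) := by
    rw [map_mul, map_mul, mul_assoc, (mem_cfield.1 hs).1 _ (A.inv_mem ha), mul_assoc, ← mul_assoc (ρ g),
      cfield_comm_K hs hg, mul_assoc s, ← mul_assoc (ρ a), (mem_cfield.1 hs).1 a ha]
    simp only [mul_assoc]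
  show ρ (a * g * a⁻¹) * (s * ρ z) = s * ρ z * ρ (a * g * a⁻¹)
  rw [← mul_assoc, hcs, mul_assoc s, mul_assoc s, ← map_mul ρ (a * g * a⁻¹) z, ← map_mul ρ z (a * g * a⁻¹), hC.toData.cm ha hm hg hz]

theorem exists_sqrt {s : E2} (hs : s ∈ cfield ρ A K) : ∃ r ∈ cfield ρ A K, r * r = s := by
  have hF := hC.cfield_isField
  haveI : Finite (Module.End (ZMod 2) V) := Finite.of_injective _ DFunLike.coe_injective
  have hinj : Function.Injective fun r : cfield ρ A K => r * r := fun r r' h => by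
    by_contra hne
    have h0 : (r + r') * (r + r') = 0 := by
      have e : (r + r') * (r + r') = r * r + r' * r' + (r * r' + r * r') := by
        rw [mul_add, add_mul, add_mul, hF.mul_comm r' r]; abel
      rw [e, show r * r = r' * r' from h]
      refine Subtype.ext ?_
      show (r' : E2) * r' + r' * r' + ((r : E2) * r' + r * r') = 0
      rw [end_add_self, end_add_self, add_zero]
    have hne' : r + r' ≠ 0 := fun h => hne (Subtype.ext (by
      have h1 : (r : E2) + r' = 0 := congrArg Subtype.val h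
      calc (r : E2) = (r : E2) + r' + r' := by rw [add_assoc, end_add_self, add_zero]
        _ = r' := by rw [h1, zero_add]))
    obtain ⟨i, hi⟩ := hF.mul_inv_cancel hne'
    refine hne' ?_
    calc r + r' = (r + r') * ((r + r') * i) := by rw [hi, mul_one]
      _ = 0 := by rw [← mul_assoc, h0, zero_mul]
  obtain ⟨r, hr⟩ := Finite.injective_iff_surjective.1 hinj ⟨s, hs⟩
  exact ⟨r, r.2, congrArg Subtype.val hr⟩

/-- A nilpotent element of the span of `K` fixed by `N_A(K)`. -/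
theorem exists_nilpotent : ∃ η : E2, InR ρ A K η ∧ tT ρ A K η = 0 ∧ η * η = 0 ∧ η ≠ 0 ∧
    ∀ b ∈ A, b ∈ Subgroup.normalizer (K : Set G) → ρ b * η = η * ρ b := by
  classical
  haveI : Finite (Module.End (ZMod 2) V) := Finite.of_injective _ DFunLike.coe_injective
  obtain ⟨W, hW⟩ : ∃ W : Set E2, W = {w | InR ρ A K w ∧ tT ρ A K w = 0 ∧ w ∉ cfield ρ A K} := ⟨_, rfl⟩
  have hne : W.Nonempty := by
    have := hC.toData.not_comm_image
    push Not at this
    obtain ⟨g, hg, f, hf, hgf⟩ := this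
    by_cases ht : tr ρ g = 0
    · exact ⟨ρ g, hW ▸ ⟨(inR_rho hC hg).1, (inR_rho hC hg).2.trans ht,
        fun h => hgf (cfield_comm_K h hf).symm⟩⟩
    · refine ⟨tr ρ f * ρ g + tr ρ g * ρ f, hW ▸ ⟨?_, ?_, fun hw => hgf ?_⟩⟩
      · exact (inR_add hC (inR_smul hC (hC.tr_mem hf) (inR_rho hC hg).1).1 (inR_smul hC (hC.tr_mem hg) (inR_rho hC hf).1).1).1
      · rw [(inR_add hC (inR_smul hC (hC.tr_mem hf) (inR_rho hC hg).1).1 (inR_smul hC (hC.tr_mem hg) (inR_rho hC hf).1).1).2,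
          (inR_smul hC (hC.tr_mem hf) (inR_rho hC hg).1).2, (inR_smul hC (hC.tr_mem hg) (inR_rho hC hf).1).2,
          (inR_rho hC hg).2, (inR_rho hC hf).2,
          show tr ρ g * tr ρ f = tr ρ f * tr ρ g from congrArg Subtype.val
            (hC.cfield_isField.mul_comm ⟨_, hC.tr_mem hg⟩ ⟨_, hC.tr_mem hf⟩), end_add_self]
      · have h1 : ρ g * (tr ρ g * ρ f) = tr ρ g * ρ f * ρ g := by
          have h2 := cfield_comm_K hw hg
          rw [mul_add, add_mul, ← mul_assoc (ρ g) (tr ρ f), cfield_comm_K (hC.tr_mem hf) hg] at h2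
          exact add_left_cancel h2
        rw [← mul_assoc, cfield_comm_K (hC.tr_mem hg) hg, mul_assoc, mul_assoc] at h1
        refine LinearMap.ext fun x => (hC.cfield_bij (hC.tr_mem hg) ht).1 ?_
        exact LinearMap.congr_fun h1 x
  let D : G → E2 → E2 := fun b w => ρ b * w * ρ b + w
  let good : E2 → Set G := fun w => {b | b ∈ A ∧ b ∈ Subgroup.normalizer (K : Set G) ∧ D b w ∈ cfield ρ A K}
  obtain ⟨w, hw, hmax⟩ := Set.exists_max_image W (fun w => (good w).ncard) (Set.toFinite W) hne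
  obtain ⟨hwR, hwT, hwC⟩ := (hW ▸ hw : w ∈ {w | InR ρ A K w ∧ tT ρ A K w = 0 ∧ w ∉ cfield ρ A K})
  have hDC : ∀ b ∈ A, ∀ s ∈ cfield ρ A K, D b s = 0 := fun b hb s hs => by
    show ρ b * s * ρ b + s = 0
    rw [(mem_cfield.1 hs).1 b hb, mul_assoc, hC.toData.rho_sq hb, mul_one, end_add_self]
  have hall : ∀ b ∈ A, b ∈ Subgroup.normalizer (K : Set G) → D b w ∈ cfield ρ A K := by
    intro b hb hbN
    by_contra hbad
    obtain ⟨h1, h2⟩ := inR_conj hC hb hbN hwR
    obtain ⟨h3, h4⟩ := inR_add hC h1 hwR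
    have hw' : D b w ∈ W := hW ▸ ⟨h3, by show tT ρ A K (ρ b * w * ρ b + w) = 0; rw [h4, h2, end_add_self], hbad⟩
    have hsub : good w ⊂ good (D b w) := by
      refine ⟨fun c ⟨hc, hcN, hcD⟩ => ⟨hc, hcN, ?_⟩, fun h => ?_⟩
      · have e : D c (D b w) = D b (D c w) := by
          show ρ c * (ρ b * w * ρ b + w) * ρ c + (ρ b * w * ρ b + w) = ρ b * (ρ c * w * ρ c + w) * ρ b + (ρ c * w * ρ c + w)
          have hcb : ρ c * ρ b = ρ b * ρ c := by rw [← map_mul, ← map_mul, hC.comm c hc b hb]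
          have e2 : ρ c * (ρ b * w * ρ b) * ρ c = ρ b * (ρ c * w * ρ c) * ρ b := by
            calc ρ c * (ρ b * w * ρ b) * ρ c = (ρ c * ρ b) * w * (ρ b * ρ c) := by simp only [mul_assoc]
              _ = (ρ b * ρ c) * w * (ρ c * ρ b) := by rw [hcb]
              _ = _ := by simp only [mul_assoc]
          simp only [mul_add, add_mul, e2]
          abel
        rw [e, hDC b hb _ hcD]
        exact (cfield ρ A K).zero_mem
      · refine hbad (h (show b ∈ good (D b w) from ⟨hb, hbN, ?_⟩)).2.2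
        have : D b (D b w) = 0 := by
          show ρ b * (ρ b * w * ρ b + w) * ρ b + (ρ b * w * ρ b + w) = 0
          have e2 : ρ b * (ρ b * w * ρ b) * ρ b = w := by
            calc ρ b * (ρ b * w * ρ b) * ρ b = (ρ b * ρ b) * w * (ρ b * ρ b) := by simp only [mul_assoc]
              _ = w := by rw [hC.toData.rho_sq hb, one_mul, mul_one]
          simp only [mul_add, add_mul, e2]
          rw [add_comm w (ρ b * w * ρ b), end_add_self]
        rw [this]
        exact (cfield ρ A K).zero_mem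
    exact (not_lt.2 (hmax _ hw')) (Set.ncard_lt_ncard hsub (Set.toFinite _))
  obtain ⟨s, hs, hss⟩ := exists_sqrt hC (inR_sq hC hwR hwT)
  have hsR := inR_cfield hC hs
  have hη2 : (w + s) * (w + s) = 0 := by
    rw [mul_add, add_mul, add_mul, inR_comm hC hwR hs, hss,
      show w * w + s * w + (s * w + w * w) = (w * w + w * w) + (s * w + s * w) by abel, end_add_self, end_add_self, add_zero]
  refine ⟨w + s, (inR_add hC hwR hsR.1).1, by rw [(inR_add hC hwR hsR.1).2, hwT, hsR.2, add_zero], hη2, fun h => hwC ?_,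
    fun b hb hbN => ?_⟩
  · rwa [eq_neg_of_add_eq_zero_left h, neg_eq_of_add_eq_zero_right (end_add_self s)]
  · obtain ⟨γ, hγ⟩ : ∃ γ, γ = D b w := ⟨_, rfl⟩
    have hγC : γ ∈ cfield ρ A K := hγ ▸ hall b hb hbN
    have hb2 := hC.toData.rho_sq hb
    have hsb : ρ b * s * ρ b = s := by rw [(mem_cfield.1 hs).1 b hb, mul_assoc, hb2, mul_one]
    have hc1 : ρ b * (w + s) * ρ b = (w + s) + γ := by
      rw [hγ, mul_add, add_mul, hsb]
      show ρ b * w * ρ b + s = w + s + (ρ b * w * ρ b + w)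
      rw [show w + s + (ρ b * w * ρ b + w) = ρ b * w * ρ b + s + (w + w) by abel, end_add_self, add_zero]
    have hγ0 : γ = 0 := by
      by_contra hne0
      have h1 : (ρ b * (w + s) * ρ b) * (ρ b * (w + s) * ρ b) = 0 := by
        calc (ρ b * (w + s) * ρ b) * (ρ b * (w + s) * ρ b) = ρ b * (w + s) * (ρ b * ρ b) * (w + s) * ρ b := by
              simp only [mul_assoc]
          _ = 0 := by rw [hb2, mul_one, mul_assoc (ρ b), hη2, mul_zero, zero_mul]
      have hηc : (w + s) * γ = γ * (w + s) := inR_comm hC (inR_add hC hwR hsR.1).1 hγC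
      obtain ⟨η, hη⟩ : ∃ η, η = w + s := ⟨_, rfl⟩
      rw [← hη] at hc1 h1 hη2 hηc
      rw [hc1, mul_add, add_mul, add_mul, hη2, hηc, zero_add, ← add_assoc, end_add_self, zero_add] at h1
      exact hne0 (LinearMap.ext fun x => (hC.cfield_bij hγC hne0).1 (by
        rw [← Module.End.mul_apply, h1, LinearMap.zero_apply, map_zero]))
    rw [hγ0, add_zero] at hc1
    calc ρ b * (w + s) = ρ b * (w + s) * ρ b * ρ b := by rw [mul_assoc _ (ρ b), hb2, mul_one]
      _ = (w + s) * ρ b := by rw [hc1]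

/-- The nilpotent element is not annihilated from both sides by `K`. -/
theorem exists_dual {a : G} (ha : a ∈ A) (hm : a ∉ Subgroup.normalizer (K : Set G)) {η : E2} (hη : InR ρ A K η)
    (hT : tT ρ A K η = 0) (h2 : η * η = 0) (h0 : η ≠ 0)
    (hfix : ∀ b ∈ A, b ∈ Subgroup.normalizer (K : Set G) → ρ b * η = η * ρ b) :
    ∃ x, InR ρ A K x ∧ tT ρ A K x = 0 ∧ x * x = 0 ∧ η * x + x * η = 1 := by
  have hsand : ∀ y, InR ρ A K y → η * y * η = tT ρ A K (η * y) * η := fun y hy => by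
    obtain ⟨hR, hsum⟩ := inR_mul hC hη hy
    rw [hT, zero_mul, zero_mul, zero_add, add_zero] at hsum
    have h := congrArg (η * ·) hsum
    beta_reduce at h
    rw [mul_add, mul_add, ← mul_assoc, h2, zero_mul, zero_add, ← mul_assoc η (tT ρ A K y),
      inR_comm hC hη (tT_mem hC hy), mul_assoc (tT ρ A K y), h2, mul_zero, zero_add, ← mul_assoc] at h
    rw [h, inR_comm hC hη (tT_mem hC hR)]
  have hex : ∃ y, InR ρ A K y ∧ tT ρ A K (η * y) ≠ 0 := by
    by_contra hall
    push Not at hall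
    have hz : ∀ g ∈ K, η * ρ g * η = 0 := fun g hg => by
      rw [hsand _ (inR_rho hC hg).1, hall _ (inR_rho hC hg).1, zero_mul]
    have ha2 := hC.toData.rho_sq ha
    have hη' : ∀ g ∈ K, ρ (a * g * a⁻¹) * η = η * ρ (a * g * a⁻¹) := fun g hg => inR_conj_a hC ha hm hg hη
    obtain ⟨η', hη'def⟩ : ∃ η', η' = ρ a * η * ρ a := ⟨_, rfl⟩
    have haa : ∀ g, ρ a * ρ g * ρ a = ρ (a * g * a⁻¹) := fun g => by
      rw [map_mul, map_mul, hC.toData.inv_eq ha]
    have haa' : ∀ g, ρ a * ρ (a * g * a⁻¹) * ρ a = ρ g := fun g => by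
      rw [← haa]
      calc ρ a * (ρ a * ρ g * ρ a) * ρ a = (ρ a * ρ a) * ρ g * (ρ a * ρ a) := by simp only [mul_assoc]
        _ = ρ g := by rw [ha2, one_mul, mul_one]
    have hconjmul : ∀ X Y : E2, (ρ a * X * ρ a) * (ρ a * Y * ρ a) = ρ a * (X * Y) * ρ a := fun X Y => by
      calc (ρ a * X * ρ a) * (ρ a * Y * ρ a) = ρ a * X * (ρ a * ρ a) * Y * ρ a := by simp only [mul_assoc]
        _ = _ := by rw [ha2, mul_one]; simp only [mul_assoc]
    have hη'K : ∀ g ∈ K, ρ g * η' = η' * ρ g := fun g hg => by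
      rw [← haa' g, hη'def, hconjmul, hconjmul, hη' g hg]
    have hz' : ∀ g ∈ K, η' * ρ (a * g * a⁻¹) * η' = 0 := fun g hg => by
      rw [← haa, hη'def, hconjmul, hconjmul, hz g hg, mul_zero, zero_mul]
    have hηη' : η * η' = η' * η := by
      refine gam_induction (P := fun u => u.1 * η' = η' * u.1) (fun s hs z hz => ?_) (by simp)
        (fun u v _ _ h1 h2 => by simp only [Prod.fst_add, mul_add, add_mul, h1, h2]) _ hη.choose_spec
      show s * ρ z * η' = η' * (s * ρ z)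
      have hs' : η' * s = s * η' := by
        rw [hη'def, mul_assoc, (mem_cfield.1 hs).1 a ha, ← mul_assoc, mul_assoc (ρ a),
          inR_comm hC hη hs, ← mul_assoc, (mem_cfield.1 hs).1 a ha]
        simp only [mul_assoc]
      rw [mul_assoc, hη'K z hz, ← mul_assoc, ← mul_assoc, hs']
    let M : Submodule (ZMod 2) V := Submodule.span (ZMod 2)
      {x | ∃ g ∈ K, ∃ f ∈ K, ∃ v : V, x = (ρ g * ρ (a * f * a⁻¹) * η) v ∨ x = (ρ g * ρ (a * f * a⁻¹) * η') v}
    have hgenM : ∀ g ∈ K, ∀ f ∈ K, ∀ v : V,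
        (ρ g * ρ (a * f * a⁻¹) * η) v ∈ M ∧ (ρ g * ρ (a * f * a⁻¹) * η') v ∈ M := fun g hg f hf v =>
      ⟨Submodule.subset_span ⟨g, hg, f, hf, v, Or.inl rfl⟩, Submodule.subset_span ⟨g, hg, f, hf, v, Or.inr rfl⟩⟩
    have hMa : M ≤ M.comap (ρ a) := by
      rw [Submodule.span_le]
      have key : ∀ g ∈ K, ∀ f ∈ K, ∀ X : E2, ρ a * (ρ g * ρ (a * f * a⁻¹) * X) =
          ρ f * ρ (a * g * a⁻¹) * (ρ a * X * ρ a) * ρ a := fun g hg f hf X => by
        have e : ρ f * ρ (a * g * a⁻¹) = ρ (a * g * a⁻¹) * ρ f := by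
          rw [← map_mul, ← map_mul, hC.toData.cm ha hm hg hf]
        rw [e, ← haa' f]
        calc ρ a * (ρ g * ρ (a * f * a⁻¹) * X)
            = (ρ a * ρ g * ρ a) * (ρ a * ρ (a * f * a⁻¹) * ρ a) * (ρ a * X * ρ a) * ρ a := by
              rw [hconjmul, hconjmul, mul_assoc _ (ρ a) (ρ a), ha2, mul_one]
          _ = _ := by rw [haa, haa']
      have e' : ρ a * η' * ρ a = η := by
        rw [hη'def]
        calc ρ a * (ρ a * η * ρ a) * ρ a = (ρ a * ρ a) * η * (ρ a * ρ a) := by simp only [mul_assoc]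
          _ = η := by rw [ha2, one_mul, mul_one]
      rintro _ ⟨g, hg, f, hf, v, rfl | rfl⟩
      · rw [SetLike.mem_coe, Submodule.mem_comap, ← Module.End.mul_apply, key g hg f hf, ← hη'def, Module.End.mul_apply]
        exact (hgenM f hf g hg _).2
      · rw [SetLike.mem_coe, Submodule.mem_comap, ← Module.End.mul_apply, key g hg f hf, e', Module.End.mul_apply]
        exact (hgenM f hf g hg _).1
    have hMb : ∀ b ∈ A, b ∈ Subgroup.normalizer (K : Set G) → M ≤ M.comap (ρ b) := fun b hb hbN => by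
      rw [Submodule.span_le]
      have hb2 := hC.toData.rho_sq hb
      have key : ∀ g f : G, ∀ X : E2, ρ b * X = X * ρ b → ρ b * (ρ g * ρ (a * f * a⁻¹) * X) =
          ρ (b * g * b⁻¹) * ρ (a * (b * f * b⁻¹) * a⁻¹) * X * ρ b := fun g f X hX => by
        rw [mul_assoc _ X (ρ b), ← hX, ← mul_assoc, ← mul_assoc _ (ρ b) X]
        congr 1
        rw [← map_mul, ← map_mul, ← map_mul, ← map_mul]
        congr 1
        have hba := hC.comm b hb a ha
        calc b * (g * (a * f * a⁻¹)) = b * g * b⁻¹ * ((b * a) * f * (b * a)⁻¹ * b) := by group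
          _ = b * g * b⁻¹ * ((a * b) * f * (a * b)⁻¹ * b) := by rw [hba]
          _ = _ := by group
      have hη'b : ρ b * η' = η' * ρ b := by
        have hcb : ρ b * ρ a = ρ a * ρ b := by rw [← map_mul, ← map_mul, hC.comm b hb a ha]
        rw [hη'def, ← mul_assoc, ← mul_assoc, hcb, mul_assoc (ρ a), hfix b hb hbN, ← mul_assoc, mul_assoc _ (ρ b), hcb]
        simp only [mul_assoc]
      rintro _ ⟨g, hg, f, hf, v, rfl | rfl⟩
      · rw [SetLike.mem_coe, Submodule.mem_comap, ← Module.End.mul_apply, key g f _ (hfix b hb hbN), Module.End.mul_apply]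
        exact (hgenM _ (conj_mem_of_normalizer hbN hg) _ (conj_mem_of_normalizer hbN hf) _).1
      · rw [SetLike.mem_coe, Submodule.mem_comap, ← Module.End.mul_apply, key g f _ hη'b, Module.End.mul_apply]
        exact (hgenM _ (conj_mem_of_normalizer hbN hg) _ (conj_mem_of_normalizer hbN hf) _).2
    have hMi : Inv ρ A K M := by
      refine ⟨fun c hc x hx => ?_, fun g0 hg0 x hx => ?_⟩
      · by_cases hcN : c ∈ Subgroup.normalizer (K : Set G)
        · exact hMb c hc hcN hx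
        · have h1 : ρ (a * c) x ∈ M := hMb _ (A.mul_mem ha hc) (hC.index_two ha hm hc hcN) hx
          have h3 : ρ a (ρ (a * c) x) ∈ M := hMa h1
          rwa [← Module.End.mul_apply, map_mul, ← mul_assoc, ha2, one_mul] at h3
      · have h1 : M ≤ M.comap (ρ g0) := by
          rw [Submodule.span_le]
          rintro _ ⟨g, hg, f, hf, v, rfl | rfl⟩ <;>
            rw [SetLike.mem_coe, Submodule.mem_comap, ← Module.End.mul_apply, ← mul_assoc, ← mul_assoc, ← map_mul]
          exacts [(hgenM _ (K.mul_mem hg0 hg) f hf v).1, (hgenM _ (K.mul_mem hg0 hg) f hf v).2]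
        exact h1 hx
    rcases hC.irr M hMi with hM | hM
    · have hkill : ∀ g ∈ K, ∀ f ∈ K, η * η' * (ρ g * ρ (a * f * a⁻¹) * η) = 0 ∧ η * η' * (ρ g * ρ (a * f * a⁻¹) * η') = 0 := by
        intro g hg f hf
        refine ⟨?_, ?_⟩
        · calc η * η' * (ρ g * ρ (a * f * a⁻¹) * η) = η * (η' * ρ g) * (ρ (a * f * a⁻¹) * η) := by simp only [mul_assoc]
            _ = η * ρ g * η' * (η * ρ (a * f * a⁻¹)) := by rw [← hη'K g hg, hη' f hf, ← mul_assoc η]
            _ = η * ρ g * (η' * η) * ρ (a * f * a⁻¹) := by simp only [mul_assoc]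
            _ = η * ρ g * η * η' * ρ (a * f * a⁻¹) := by rw [← hηη']; simp only [mul_assoc]
            _ = 0 := by rw [hz g hg, zero_mul, zero_mul]
        · calc η * η' * (ρ g * ρ (a * f * a⁻¹) * η') = η * (η' * ρ g) * (ρ (a * f * a⁻¹) * η') := by simp only [mul_assoc]
            _ = η * ρ g * (η' * ρ (a * f * a⁻¹) * η') := by rw [← hη'K g hg]; simp only [mul_assoc]
            _ = 0 := by rw [hz' f hf, mul_zero]
      have hnn : η * η' = 0 := by
        have : M ≤ LinearMap.ker (η * η') := by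
          rw [Submodule.span_le]
          rintro _ ⟨g, hg, f, hf, v, rfl | rfl⟩ <;> rw [SetLike.mem_coe, LinearMap.mem_ker, ← Module.End.mul_apply]
          · rw [(hkill g hg f hf).1, LinearMap.zero_apply]
          · rw [(hkill g hg f hf).2, LinearMap.zero_apply]
        rw [hM, top_le_iff, LinearMap.ker_eq_top] at this
        exact this
      have : M ≤ LinearMap.ker η := by
        rw [Submodule.span_le]
        rintro _ ⟨g, hg, f, hf, v, rfl | rfl⟩ <;> rw [SetLike.mem_coe, LinearMap.mem_ker, ← Module.End.mul_apply]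
        · rw [mul_assoc, hη' f hf, ← mul_assoc, ← mul_assoc, hz g hg, zero_mul, LinearMap.zero_apply]
        · rw [show η * (ρ g * ρ (a * f * a⁻¹) * η') = η * ρ (a * f * a⁻¹) * η' * ρ g by
            rw [mul_assoc (η * ρ (a * f * a⁻¹)), ← hη'K g hg, ← mul_assoc, ← mul_assoc, mul_assoc η (ρ g),
              show ρ g * ρ (a * f * a⁻¹) = ρ (a * f * a⁻¹) * ρ g by rw [← map_mul, ← map_mul, hC.toData.cm ha hm hf hg]]
            simp only [mul_assoc],
            ← hη' f hf, mul_assoc _ η η', hnn, mul_zero, zero_mul, LinearMap.zero_apply]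
      rw [hM, top_le_iff, LinearMap.ker_eq_top] at this
      exact h0 this
    · -- `K` fixes the image
      have hgη : ∀ g ∈ K, ρ g * η = η := fun g hg => LinearMap.ext fun v => by
        have := hM g hg _ (hgenM 1 K.one_mem 1 K.one_mem v).1
        simpa using this
      have hηg : ∀ g ∈ K, η * ρ g = (tr ρ g + 1) * η := fun g hg => by
        obtain ⟨hR, hsum⟩ := inR_mul hC hη (inR_rho hC hg).1
        rw [hT, zero_mul, zero_mul, zero_add, add_zero, hall _ (inR_rho hC hg).1, add_zero, (inR_rho hC hg).2, hgη g hg] at hsum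
        calc η * ρ g = η * ρ g + η + η := by rw [add_assoc, end_add_self, add_zero]
          _ = _ := by rw [hsum, add_mul, one_mul]
      have hF := hC.cfield_isField
      have hcan : ∀ s ∈ cfield ρ A K, ∀ r ∈ cfield ρ A K, s * η = r * η → s = r := fun s hs r hr h => by
        by_contra hne
        refine h0 (LinearMap.ext fun v => (hC.cfield_bij ((cfield ρ A K).sub_mem hs hr) (sub_ne_zero.2 hne)).1 ?_)
        rw [← Module.End.mul_apply, sub_mul, h, sub_self]; simp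
      have h1C : ∀ g ∈ K, tr ρ g + 1 ∈ cfield ρ A K := fun g hg =>
        (cfield ρ A K).add_mem (hC.tr_mem hg) (cfield ρ A K).one_mem
      let χ : K →* cfield ρ A K :=
        { toFun := fun g => ⟨tr ρ (g : G) + 1, h1C g g.2⟩
          map_one' := Subtype.ext (by
            show tr ρ ((1 : K) : G) + 1 = 1
            rw [tr, OneMemClass.coe_one, inv_one, map_one, end_add_self, zero_add])
          map_mul' := fun g f => by
            refine Subtype.ext ?_
            show tr ρ ((g : G) * f) + 1 = (tr ρ (g : G) + 1) * (tr ρ (f : G) + 1)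
            refine hcan _ (h1C _ (K.mul_mem g.2 f.2)) _ ((cfield ρ A K).mul_mem (h1C g g.2) (h1C f f.2)) ?_
            rw [← hηg _ (K.mul_mem g.2 f.2), map_mul, ← mul_assoc, hηg g g.2, mul_assoc, hηg f f.2, mul_assoc] }
      refine hC.toData.not_comm_image fun g hg f hf => ?_
      have hsq : ∀ u ∈ K, ρ u⁻¹ = ρ u := fun u hu => by
        have h5 : tr ρ u + 1 = 1 := congrArg Subtype.val (qs_hom_trivial hC.qs χ (fun x y => hF.mul_comm _ _) ⟨u, hu⟩)
        have h6 : ρ u + ρ u⁻¹ = 0 := add_eq_right.1 h5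
        rw [eq_neg_of_add_eq_zero_right h6, neg_eq_of_add_eq_zero_right (end_add_self _)]
      rw [← map_mul, ← hsq _ (K.mul_mem hg hf), mul_inv_rev, map_mul, hsq g hg, hsq f hf]
  obtain ⟨y, hyR, hy⟩ := hex
  obtain ⟨β, hβ⟩ : ∃ β, β = tT ρ A K (η * y) := ⟨_, rfl⟩
  rw [← hβ] at hy
  have hβC : β ∈ cfield ρ A K := hβ ▸ tT_mem hC (inR_mul hC hη hyR).1
  obtain ⟨i, hi⟩ := hC.cfield_isField.mul_inv_cancel (a := ⟨β, hβC⟩) (fun h => hy (congrArg Subtype.val h))
  obtain ⟨y1, hy1⟩ : ∃ y1, y1 = (i : E2) * y := ⟨_, rfl⟩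
  have hy1R : InR ρ A K y1 := hy1 ▸ (inR_smul hC i.2 hyR).1
  have hy1T : tT ρ A K (η * y1) = 1 := by
    rw [hy1, ← mul_assoc, inR_comm hC hη i.2, mul_assoc, (inR_smul hC i.2 (inR_mul hC hη hyR).1).2, ← hβ,
      show (i : E2) * β = β * i from congrArg Subtype.val (hC.cfield_isField.mul_comm i ⟨β, hβC⟩)]
    exact congrArg Subtype.val hi
  obtain ⟨x0, hx0⟩ : ∃ x0, x0 = y1 + tT ρ A K y1 * (η * y1) := ⟨_, rfl⟩
  have hey : InR ρ A K (η * y1) := (inR_mul hC hη hy1R).1
  have hTy : tT ρ A K y1 ∈ cfield ρ A K := tT_mem hC hy1R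
  have hx0R : InR ρ A K x0 := hx0 ▸ (inR_add hC hy1R (inR_smul hC hTy hey).1).1
  have hx0T : tT ρ A K x0 = 0 := by
    rw [hx0, (inR_add hC hy1R (inR_smul hC hTy hey).1).2, (inR_smul hC hTy hey).2, hy1T, mul_one, end_add_self]
  have hx0η : η * x0 = η * y1 := by
    rw [hx0, mul_add, ← mul_assoc η (tT ρ A K y1), inR_comm hC hη hTy, mul_assoc, ← mul_assoc η η, h2, zero_mul,
      mul_zero, add_zero]
  have hanti : η * x0 + x0 * η = 1 := by
    have := (inR_mul hC hη hx0R).2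
    rw [hT, hx0T, zero_mul, zero_mul, zero_mul, zero_add, zero_add, zero_add, hx0η, hy1T] at this
    rw [hx0η]
    exact this
  obtain ⟨ξ, hξ⟩ : ∃ ξ, ξ = x0 * x0 := ⟨_, rfl⟩
  have hξC : ξ ∈ cfield ρ A K := hξ ▸ inR_sq hC hx0R hx0T
  refine ⟨x0 + ξ * η, (inR_add hC hx0R (inR_smul hC hξC hη).1).1, ?_, ?_, ?_⟩
  · rw [(inR_add hC hx0R (inR_smul hC hξC hη).1).2, (inR_smul hC hξC hη).2, hx0T, hT, mul_zero, add_zero]
  · calc (x0 + ξ * η) * (x0 + ξ * η) = x0 * x0 + (x0 * ξ * η + ξ * η * x0) + ξ * (η * ξ) * η := by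
          simp only [mul_add, add_mul, mul_assoc]; abel
      _ = ξ + (ξ * (x0 * η) + ξ * (η * x0)) + ξ * (ξ * η) * η := by
          rw [inR_comm hC hη hξC, inR_comm hC hx0R hξC, ← hξ, mul_assoc, mul_assoc ξ η]
      _ = ξ + ξ * (η * x0 + x0 * η) + ξ * ξ * (η * η) := by
          rw [mul_add ξ (η * x0)]; simp only [mul_assoc]; abel
      _ = 0 := by rw [hanti, h2, mul_one, mul_zero, add_zero, end_add_self]
  · rw [mul_add, add_mul, ← mul_assoc η ξ, inR_comm hC hη hξC, mul_assoc, h2, mul_zero, add_zero, add_zero]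
    exact hanti

/-- The span of `K` is four-dimensional. -/
theorem span_four {η x : E2} (hη : InR ρ A K η) (hTη : tT ρ A K η = 0) (hη2 : η * η = 0)
    (hx : InR ρ A K x) (hTx : tT ρ A K x = 0) (hx2 : x * x = 0) (h1 : η * x + x * η = 1) {r : E2} (hr : InR ρ A K r) :
    ∃ α ∈ cfield ρ A K, ∃ γ ∈ cfield ρ A K, ∃ δ ∈ cfield ρ A K, r = α + γ * η + δ * x + tT ρ A K r * (η * x) := by
  have hone := inR_cfield hC (cfield ρ A K).one_mem
  have hTe : tT ρ A K (η * x) = 1 := by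
    have := (inR_mul hC hη hx).2
    rw [hTη, hTx, h1, zero_mul, zero_mul, zero_mul, zero_add, zero_add, zero_add] at this
    exact this.symm
  have hTe' : tT ρ A K (x * η) = 1 := by
    have := (inR_mul hC hx hη).2
    rw [hTη, hTx, add_comm (x * η), h1, zero_mul, zero_mul, zero_mul, zero_add, zero_add, zero_add] at this
    exact this.symm
  have h00 : tT ρ A K (0 : E2) = 0 := (inR_cfield hC (cfield ρ A K).zero_mem).2
  have he : InR ρ A K (η * x) := (inR_mul hC hη hx).1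
  obtain ⟨τ, hτ⟩ : ∃ τ, τ = tT ρ A K r := ⟨_, rfl⟩
  rw [← hτ]
  have hτC : τ ∈ cfield ρ A K := hτ ▸ tT_mem hC hr
  obtain ⟨r0, hr0⟩ : ∃ r0, r0 = r + τ * (η * x) := ⟨_, rfl⟩
  have hr0R : InR ρ A K r0 := hr0 ▸ (inR_add hC hr (inR_smul hC hτC he).1).1
  have hr0T : tT ρ A K r0 = 0 := by
    rw [hr0, (inR_add hC hr (inR_smul hC hτC he).1).2, (inR_smul hC hτC he).2, hTe, mul_one, ← hτ, end_add_self]
  obtain ⟨δ, hδ⟩ : ∃ δ, δ = tT ρ A K (η * r0) := ⟨_, rfl⟩
  obtain ⟨γ, hγ⟩ : ∃ γ, γ = tT ρ A K (x * r0) := ⟨_, rfl⟩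
  have hδC : δ ∈ cfield ρ A K := hδ ▸ tT_mem hC (inR_mul hC hη hr0R).1
  have hγC : γ ∈ cfield ρ A K := hγ ▸ tT_mem hC (inR_mul hC hx hr0R).1
  obtain ⟨q, hq⟩ : ∃ q, q = r0 + δ * x + γ * η := ⟨_, rfl⟩
  have hqR1 := inR_add hC hr0R (inR_smul hC hδC hx).1
  have hqR : InR ρ A K q := hq ▸ (inR_add hC hqR1.1 (inR_smul hC hγC hη).1).1
  have hqT : tT ρ A K q = 0 := by
    rw [hq, (inR_add hC hqR1.1 (inR_smul hC hγC hη).1).2, hqR1.2, (inR_smul hC hδC hx).2, (inR_smul hC hγC hη).2,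
      hr0T, hTx, hTη, mul_zero, mul_zero, add_zero, add_zero]
  have hTmul : ∀ m, InR ρ A K m → tT ρ A K (m * q) =
      tT ρ A K (m * r0) + δ * tT ρ A K (m * x) + γ * tT ρ A K (m * η) := fun m hmR => by
    have a1 := (inR_mul hC hmR hr0R).1
    have a2 := inR_smul hC hδC (inR_mul hC hmR hx).1
    have a3 := inR_smul hC hγC (inR_mul hC hmR hη).1
    rw [hq, mul_add, mul_add, ← mul_assoc m δ, inR_comm hC hmR hδC, mul_assoc, ← mul_assoc m γ, inR_comm hC hmR hγC,
      mul_assoc, (inR_add hC (inR_add hC a1 a2.1).1 a3.1).2, (inR_add hC a1 a2.1).2, a2.2, a3.2]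
  have hcomm : ∀ m, InR ρ A K m → tT ρ A K m = 0 → tT ρ A K (m * q) = 0 → m * q = q * m := fun m hmR hm0 hmq => by
    have := (inR_mul hC hmR hqR).2
    rw [hm0, hqT, hmq, zero_mul, zero_mul, zero_mul, add_zero, add_zero, add_zero] at this
    rw [eq_neg_of_add_eq_zero_left this, neg_eq_of_add_eq_zero_right (end_add_self _)]
  have hηq : η * q = q * η := hcomm η hη hTη (by
    rw [hTmul η hη, hTe, hη2, h00, ← hδ, mul_one, mul_zero, add_zero, end_add_self])
  have hxq : x * q = q * x := hcomm x hx hTx (by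
    rw [hTmul x hx, hTe', hx2, h00, ← hγ, mul_one, mul_zero, add_zero, end_add_self])
  have hqC : q ∈ cfield ρ A K := by
    obtain ⟨hR, hsum⟩ := inR_mul hC he hqR
    rw [show η * x * q = q * (η * x) by rw [mul_assoc, hxq, ← mul_assoc, hηq, mul_assoc], end_add_self, hTe, hqT,
      one_mul, zero_mul, mul_zero, add_zero, add_zero] at hsum
    have h3 : q = tT ρ A K (q * (η * x)) := by
      calc q = q + (q + tT ρ A K (q * (η * x))) := by rw [← hsum, add_zero]
        _ = _ := by rw [← add_assoc, end_add_self, zero_add]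
    rw [h3]
    exact tT_mem hC (inR_mul hC hqR he).1
  refine ⟨q, hqC, γ, hγC, δ, hδC, ?_⟩
  rw [hq, hr0]
  calc r = r + (τ * (η * x) + τ * (η * x)) + (δ * x + δ * x) + (γ * η + γ * η) := by
        rw [end_add_self, end_add_self, end_add_self, add_zero, add_zero, add_zero]
    _ = _ := by abel

/-- An element commuting with the generators commutes with `K`. -/
theorem comm_K_of_comm {η x X : E2} (hη : InR ρ A K η) (hTη : tT ρ A K η = 0) (hη2 : η * η = 0)
    (hx : InR ρ A K x) (hTx : tT ρ A K x = 0) (hx2 : x * x = 0) (h1 : η * x + x * η = 1)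
    (hXC : ∀ s ∈ cfield ρ A K, X * s = s * X) (hXη : X * η = η * X) (hXx : X * x = x * X) {g : G} (hg : g ∈ K) :
    X * ρ g = ρ g * X := by
  obtain ⟨α, hα, γ, hγ, δ, hδ, heq⟩ := span_four hC hη hTη hη2 hx hTx hx2 h1 (inR_rho hC hg).1
  have hτ := hXC _ (tT_mem hC (inR_rho hC hg).1)
  rw [heq]
  simp only [mul_add, add_mul]
  have c1 : ∀ s ∈ cfield ρ A K, ∀ Y, X * Y = Y * X → X * (s * Y) = s * Y * X := fun s hs Y hY => by
    rw [← mul_assoc, hXC s hs, mul_assoc, hY, mul_assoc]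
  rw [hXC α hα, c1 γ hγ η hXη, c1 δ hδ x hXx,
    c1 _ (tT_mem hC (inR_rho hC hg).1) (η * x) (by rw [← mul_assoc, hXη, mul_assoc, hXx, mul_assoc])]

end CfsgLib.LocalEvenB.PGV
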