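import Cfsg.Agent.Lib.LocalEvenB.PGV.Odd

/-!
# The P(G,V)-theorem for the prime two: the moving elements
-/

set_option autoImplicit false
set_option linter.all false
set_option maxHeartbeats 800000

namespace CfsgLib.LocalEvenB.PGV

universe u v

variable {G : Type u} [Group G] [Finite G] [Fact (Nat.Prime 2)]
  {V : Type v} [AddCommGroup V] [Module (ZMod 2) V] [Finite V]
  {ρ : Representation (ZMod 2) G V} {A K : Subgroup G}

theorem end_add_self (X : Module.End (ZMod 2) V) : X + X = 0 := by rw [← two_nsmul, nsmul_p_end]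

theorem end_sub_eq_add (X Y : Module.End (ZMod 2) V) : X - Y = X + Y := by
  rw [sub_eq_add_neg, neg_eq_of_add_eq_zero_right (end_add_self Y)]

theorem vec_add_self (x : V) : x + x = 0 := by
  rw [← two_nsmul, ← Nat.cast_smul_eq_nsmul (ZMod 2), ZMod.natCast_self, zero_smul]

theorem Data.inv_eq (hC : Data ρ A K) {a : G} (ha : a ∈ A) : a⁻¹ = a :=
  inv_eq_of_mul_eq_one_right (by rw [← sq]; exact hC.exp a ha)

/-- The trace-like operator. -/
def tr (ρ : Representation (ZMod 2) G V) (g : G) : Module.End (ZMod 2) V := ρ g + ρ g⁻¹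

/-- The diagonal element. -/
def psi (a z : G) : G := z * (a * z * a⁻¹)

/-- `ψ(K)` fixes the image of `a - 1`. -/
def DeltaProp (ρ : Representation (ZMod 2) G V) (K : Subgroup G) (a : G) : Prop :=
  ∀ z ∈ K, ρ (psi a z) * (ρ a - 1) = ρ a - 1

variable (hC : Data ρ A K) {a : G} (ha : a ∈ A) (hm : a ∉ Subgroup.normalizer (K : Set G))

include hC ha hm

theorem Data.cm {g h : G} (hg : g ∈ K) (hh : h ∈ K) : a * g * a⁻¹ * h = h * (a * g * a⁻¹) :=
  (hC.dicho a ha).resolve_left hm g hg h hh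

theorem Data.psi_mul {z w : G} (hz : z ∈ K) (hw : w ∈ K) : psi a (z * w) = psi a z * psi a w := by
  unfold psi
  calc z * w * (a * (z * w) * a⁻¹) = z * (w * (a * z * a⁻¹)) * (a * w * a⁻¹) := by group
    _ = z * (a * z * a⁻¹ * w) * (a * w * a⁻¹) := by rw [hC.cm ha hm hz hw]
    _ = _ := by group

theorem Data.psi_comm {z : G} (hz : z ∈ K) : a * psi a z = psi a z * a := by
  have h2 : a * (a * z * a⁻¹) * a⁻¹ = z := by
    have h : a * a = 1 := by rw [← sq]; exact hC.exp a ha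
    calc a * (a * z * a⁻¹) * a⁻¹ = (a * a) * z * (a * a)⁻¹ := by group
      _ = z := by rw [h]; simp
  calc a * psi a z = (a * z * a⁻¹) * (a * (a * z * a⁻¹) * a⁻¹) * a := by unfold psi; group
    _ = psi a z * a := by rw [h2, hC.cm ha hm hz hz]; rfl

theorem Data.psi_one : psi a 1 = 1 := by simp [psi]

theorem Data.psi_n {z : G} (hz : z ∈ K) : ρ (psi a z) * (ρ a - 1) = (ρ a - 1) * ρ (psi a z) := by
  rw [mul_sub, sub_mul, mul_one, one_mul, ← map_mul, ← map_mul, hC.psi_comm ha hm hz]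

theorem Data.psi_inv {z : G} (hz : z ∈ K) : psi a z⁻¹ * psi a z = 1 ∧ psi a z * psi a z⁻¹ = 1 := by
  rw [← hC.psi_mul ha hm (K.inv_mem hz) hz, ← hC.psi_mul ha hm hz (K.inv_mem hz), inv_mul_cancel, mul_inv_cancel,
    hC.psi_one ha hm]
  exact ⟨rfl, rfl⟩

/-- The elements whose diagonal fixes an operator. -/
def Data.dstab (X : Module.End (ZMod 2) V) : Subgroup G where
  carrier := {g | g ∈ K ∧ ρ (psi a g) * X = X}
  one_mem' := ⟨K.one_mem, by rw [hC.psi_one ha hm, map_one, one_mul]⟩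
  mul_mem' := fun {x y} hx hy => ⟨K.mul_mem hx.1 hy.1, by
    rw [hC.psi_mul ha hm hx.1 hy.1, map_mul, mul_assoc, hy.2, hx.2]⟩
  inv_mem' := fun {x} hx => ⟨K.inv_mem hx.1, by
    conv_lhs => rw [← hx.2]
    rw [← mul_assoc, ← map_mul, (hC.psi_inv ha hm hx.1).1, map_one, one_mul]⟩

theorem Data.dstab_conj {X : Module.End (ZMod 2) V} (hX : ∀ u ∈ K, ρ (psi a u) * X = X * ρ (psi a u))
    {u g : G} (hu : u ∈ K) (hg : g ∈ K) (hgS : g ∈ hC.dstab ha hm X) : u * g * u⁻¹ ∈ hC.dstab ha hm X := by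
  refine ⟨K.mul_mem (K.mul_mem hu hg) (K.inv_mem hu), ?_⟩
  rw [hC.psi_mul ha hm (K.mul_mem hu hg) (K.inv_mem hu), hC.psi_mul ha hm hu hg, map_mul, map_mul, mul_assoc,
    hX _ (K.inv_mem hu), ← mul_assoc, mul_assoc _ (ρ (psi a g)) X, hgS.2, hX u hu, mul_assoc, ← map_mul,
    (hC.psi_inv ha hm hu).2, map_one, mul_one]

/-- An element fixing the image of `a - 1` and nontrivial on `K` makes the diagonal fix it. -/
theorem Data.delta_of_ann {b : G} (hb : b ∈ A) (hbN : b ∈ Subgroup.normalizer (K : Set G))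
    (hbK : ¬ ∀ g ∈ K, b * g = g * b) (hann : ρ b * (ρ a - 1) = ρ a - 1) : DeltaProp ρ K a := by
  obtain ⟨n, hn⟩ : ∃ n, n = ρ a - 1 := ⟨_, rfl⟩
  rw [← hn] at hann
  have hX : ∀ u ∈ K, ρ (psi a u) * n = n * ρ (psi a u) := fun u hu => hn ▸ hC.psi_n ha hm hu
  have hbi : ρ b⁻¹ * n = n := by
    conv_lhs => rw [← hann, ← mul_assoc, ← map_mul, inv_mul_cancel, map_one, one_mul]
  have heq : ∀ z, psi a (b * z * b⁻¹) = b * psi a z * b⁻¹ := fun z => by
    unfold psi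
    have hba := hC.comm b hb a ha
    calc b * z * b⁻¹ * (a * (b * z * b⁻¹) * a⁻¹) = b * z * b⁻¹ * ((a * b) * z * (a * b)⁻¹) := by group
      _ = b * z * b⁻¹ * ((b * a) * z * (b * a)⁻¹) := by rw [hba]
      _ = _ := by group
  intro z hz
  rw [← hn]
  refine (((qs_comm hC.qs (hC.dstab ha hm n) (fun u hu g hg hgS => hC.dstab_conj ha hm hX hu hg hgS) b
    (fun g hg => conj_mem_of_normalizer hbN hg) fun z hz => ⟨K.mul_mem (conj_mem_of_normalizer hbN hz) (K.inv_mem hz), ?_⟩).resolve_right hbK) hz).2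
  rw [hC.psi_mul ha hm (conj_mem_of_normalizer hbN hz) (K.inv_mem hz), heq, map_mul, map_mul, map_mul, mul_assoc,
    hX _ (K.inv_mem hz), ← mul_assoc, mul_assoc (ρ b * ρ (psi a z)), hbi, mul_assoc (ρ b), hX z hz,
    ← mul_assoc, hann, mul_assoc, ← map_mul, (hC.psi_inv ha hm hz).2, map_one, mul_one]

/-- With a second moving element fixing the image of `a - 1` the diagonal fixes it. -/
theorem Data.delta_of_two {a' : G} (ha' : a' ∈ A) (hm' : a' ∉ Subgroup.normalizer (K : Set G))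
    (hm'' : a * a' ∉ Subgroup.normalizer (K : Set G)) (hann : ρ a' * (ρ a - 1) = ρ a - 1) : DeltaProp ρ K a := by
  obtain ⟨n, hn⟩ : ∃ n, n = ρ a - 1 := ⟨_, rfl⟩
  rw [← hn] at hann
  have hX : ∀ u ∈ K, ρ (psi a u) * n = n * ρ (psi a u) := fun u hu => hn ▸ hC.psi_n ha hm hu
  have haa : a * a' ∈ A := A.mul_mem ha ha'
  intro z hz
  rw [← hn]
  have hcomm : ∀ u ∈ K, ∀ w ∈ K, psi a u * (a' * psi a w * a'⁻¹) = a' * psi a w * a'⁻¹ * psi a u := by
    intro u hu w hw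
    have e : a' * psi a w * a'⁻¹ = (a' * w * a'⁻¹) * (a * a' * w * (a * a')⁻¹) := by
      unfold psi
      have hba := hC.comm a' ha' a ha
      calc a' * (w * (a * w * a⁻¹)) * a'⁻¹ = a' * w * a'⁻¹ * ((a' * a) * w * (a' * a)⁻¹) := by group
        _ = _ := by rw [hba]
    have h1 : Commute u (a' * w * a'⁻¹) := (hC.cm ha' hm' hw hu).symm
    have h2 : Commute u (a * a' * w * (a * a')⁻¹) := (hC.cm haa hm'' hw hu).symm
    have h3 : Commute (a * u * a⁻¹) (a' * w * a'⁻¹) := by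
      have := congrArg (fun x => a * x * a⁻¹) (hC.cm haa hm'' hw hu)
      beta_reduce at this
      have e1 : a * (a * a' * w * (a * a')⁻¹) * a⁻¹ = a' * w * a'⁻¹ := by
        have h : a * a = 1 := by rw [← sq]; exact hC.exp a ha
        calc a * (a * a' * w * (a * a')⁻¹) * a⁻¹ = (a * a) * (a' * w * a'⁻¹) * (a * a)⁻¹ := by group
          _ = _ := by rw [h]; simp
      show a * u * a⁻¹ * (a' * w * a'⁻¹) = a' * w * a'⁻¹ * (a * u * a⁻¹)
      rw [← e1]
      calc a * u * a⁻¹ * (a * (a * a' * w * (a * a')⁻¹) * a⁻¹) = a * (u * (a * a' * w * (a * a')⁻¹)) * a⁻¹ := by group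
        _ = _ := by rw [← this]; group
    have h4 : Commute (a * u * a⁻¹) (a * a' * w * (a * a')⁻¹) := by
      have := congrArg (fun x => a * x * a⁻¹) (hC.cm ha' hm' hw hu)
      beta_reduce at this
      show a * u * a⁻¹ * _ = _
      calc a * u * a⁻¹ * (a * a' * w * (a * a')⁻¹) = a * (u * (a' * w * a'⁻¹)) * a⁻¹ := by group
        _ = _ := by rw [← this]; group
    rw [e]
    exact (Commute.mul_left (h1.mul_right h2) (h3.mul_right h4)).eq
  have ha'i : ρ a'⁻¹ * n = n := by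
    conv_lhs => rw [← hann, ← mul_assoc, ← map_mul, inv_mul_cancel, map_one, one_mul]
  have hswap : ∀ w ∈ K, ρ (a' * psi a w * a'⁻¹) * n = ρ (psi a w) * n := fun w hw => by
    rw [map_mul, map_mul, mul_assoc, ha'i, mul_assoc, hX w hw, ← mul_assoc, hann]
  by_contra hne
  refine qs_not_comm hC.qs fun g hg h hh => ?_
  refine ((qs_z hC.qs (hC.dstab ha hm n) (fun u hu g hg hgS => hC.dstab_conj ha hm hX hu hg hgS) hh
    fun u hu => ⟨K.mul_mem (K.mul_mem (K.mul_mem hu hh) (K.inv_mem hu)) (K.inv_mem hh), ?_⟩).resolve_left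
      fun hle => hne (hle hz).2) g hg
  rw [hC.psi_mul ha hm (K.mul_mem (K.mul_mem hu hh) (K.inv_mem hu)) (K.inv_mem hh),
    hC.psi_mul ha hm (K.mul_mem hu hh) (K.inv_mem hu), hC.psi_mul ha hm hu hh]
  have e1 : ρ (psi a u * psi a h) * n = ρ (psi a h * psi a u) * n := by
    calc ρ (psi a u * psi a h) * n = ρ (psi a u * (a' * psi a h * a'⁻¹)) * n := by
          rw [map_mul, mul_assoc, ← hswap h hh, ← mul_assoc, ← map_mul]
      _ = ρ (a' * psi a h * a'⁻¹) * (ρ (psi a u) * n) := by rw [hcomm u hu h hh, map_mul, mul_assoc]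
      _ = ρ (psi a h * psi a u) * n := by
          rw [hX u hu, ← mul_assoc, hswap h hh, mul_assoc, ← hX u hu, ← mul_assoc, ← map_mul]
  have e2 : ρ (psi a u⁻¹ * psi a h⁻¹) * n = n * ρ (psi a u⁻¹ * psi a h⁻¹) := by
    rw [map_mul, mul_assoc, hX _ (K.inv_mem hh), ← mul_assoc, hX _ (K.inv_mem hu), mul_assoc]
  rw [mul_assoc (psi a u * psi a h), map_mul, mul_assoc, e2, ← mul_assoc, e1, mul_assoc, ← e2, ← mul_assoc, ← map_mul]
  rw [show psi a h * psi a u * (psi a u⁻¹ * psi a h⁻¹) = psi a h * (psi a u * psi a u⁻¹) * psi a h⁻¹ by group,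
    (hC.psi_inv ha hm hu).2, mul_one, (hC.psi_inv ha hm hh).2, map_one, one_mul]

/-- The basic identity. -/
theorem Data.tr_conj (hd : DeltaProp ρ K a) {z : G} (hz : z ∈ K) : tr ρ (a * z * a⁻¹) = tr ρ z := by
  obtain ⟨Z, hZ⟩ : ∃ Z, Z = ρ z := ⟨_, rfl⟩
  obtain ⟨Y, hY⟩ : ∃ Y, Y = ρ (a * z * a⁻¹) := ⟨_, rfl⟩
  obtain ⟨Z', hZ'⟩ : ∃ Z', Z' = ρ z⁻¹ := ⟨_, rfl⟩
  obtain ⟨Y', hY'⟩ : ∃ Y', Y' = ρ (a * z * a⁻¹)⁻¹ := ⟨_, rfl⟩
  have zz : Z * Z' = 1 := by rw [hZ, hZ', ← map_mul, mul_inv_cancel, map_one]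
  have zz' : Z' * Z = 1 := by rw [hZ, hZ', ← map_mul, inv_mul_cancel, map_one]
  have yy : Y * Y' = 1 := by rw [hY, hY', ← map_mul, mul_inv_cancel, map_one]
  have yy' : Y' * Y = 1 := by rw [hY, hY', ← map_mul, inv_mul_cancel, map_one]
  have hc : Commute Z Y := by
    show Z * Y = Y * Z
    rw [hZ, hY, ← map_mul, ← map_mul, hC.cm ha hm hz hz]
  have hc' : Commute Z Y' := by
    show Z * Y' = Y' * Z
    rw [hZ, hY', ← map_mul, ← map_mul, (Commute.inv_left (hC.cm ha hm hz hz : Commute (a * z * a⁻¹) z)).eq]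
  have hA : Z * Y * ρ a = Z * Y + ρ a + 1 := by
    have := hd z hz
    rw [psi, map_mul, ← hZ, ← hY, mul_sub, mul_one, end_sub_eq_add, end_sub_eq_add] at this
    calc Z * Y * ρ a = Z * Y * ρ a + Z * Y + Z * Y := by rw [add_assoc, end_add_self, add_zero]
      _ = _ := by rw [this]; abel
  have hw : Z * ρ a * Z' = Z * Y' * ρ a := by
    rw [hZ, hY', hZ']
    simp only [← map_mul]
    congr 1
    group
  have h1 : Z * Y * (Z * Y' * ρ a) = Z * Y + Z * Y' * ρ a + 1 := by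
    calc Z * Y * (Z * Y' * ρ a) = Z * Y * (Z * ρ a * Z') := by rw [hw]
      _ = Z * (Y * Z) * ρ a * Z' := by simp only [mul_assoc]
      _ = Z * (Z * Y * ρ a) * Z' := by rw [← hc.eq]; simp only [mul_assoc]
      _ = Z * (Z * Y) * Z' + Z * ρ a * Z' + Z * 1 * Z' := by rw [hA, mul_add, mul_add, add_mul, add_mul]
      _ = _ := by rw [hw, mul_one, zz, hc.eq, mul_assoc, mul_assoc Y Z Z', zz, mul_one, hc.eq]
  have hwc : Z * Y * (Z * Y') = Z * Y' * (Z * Y) := by
    calc Z * Y * (Z * Y') = Z * (Y * Z) * Y' := by simp only [mul_assoc]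
      _ = Z * Z * (Y * Y') := by rw [← hc.eq]; simp only [mul_assoc]
      _ = Z * (Z * (Y' * Y)) := by rw [yy, yy', mul_assoc]
      _ = Z * (Y' * Z) * Y := by rw [← mul_assoc Z Y' Y, hc'.eq, ← mul_assoc]
      _ = _ := by simp only [mul_assoc]
  have h2 : Z * Y * (Z * Y') + Z * Y' = Z * Y + 1 - (Z * Y' + Z * Y') := by
    rw [← mul_assoc _ (Z * Y') (ρ a), hwc, mul_assoc (Z * Y') (Z * Y) (ρ a), hA, mul_add, mul_add, mul_one] at h1
    rw [hwc, end_add_self, sub_zero]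
    linear_combination (norm := abel) h1
  rw [end_add_self, sub_zero] at h2
  have h3 := congrArg (Z' * ·) h2
  beta_reduce at h3
  have e1 : Z' * (Z * Y * (Z * Y')) = Z := by
    rw [show Z' * (Z * Y * (Z * Y')) = Z' * Z * (Y * Z) * Y' by simp only [mul_assoc], zz', one_mul, ← hc.eq,
      mul_assoc, yy, mul_one]
  rw [mul_add, mul_add, e1, ← mul_assoc, zz', one_mul, ← mul_assoc, zz', one_mul, mul_one] at h3
  show ρ (a * z * a⁻¹) + ρ (a * z * a⁻¹)⁻¹ = ρ z + ρ z⁻¹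
  rw [← hY, ← hY', ← hZ, ← hZ']
  calc Y + Y' = Y + Z' + Z' + Y' := by rw [add_assoc Y, end_add_self, add_zero]
    _ = Z + Y' + Z' + Y' := by rw [h3]
    _ = Z + Z' + (Y' + Y') := by abel
    _ = _ := by rw [end_add_self, add_zero]

end CfsgLib.LocalEvenB.PGV
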