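import Cfsg.Agent.Lib.LocalEvenB.PGV.TwoIndex
import Mathlib.RingTheory.LittleWedderburn

/-!
# The P(G,V)-theorem for the prime two: the field of commuting operators
-/

set_option autoImplicit false
set_option linter.all false
set_option maxHeartbeats 800000

namespace CfsgLib.LocalEvenB.PGV

universe u v

variable {G : Type u} [Group G] [Finite G] [Fact (Nat.Prime 2)]
  {V : Type v} [AddCommGroup V] [Module (ZMod 2) V] [Finite V]
  {ρ : Representation (ZMod 2) G V} {A K : Subgroup G}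

/-- The diagonal cannot act trivially. -/
theorem Data.psi_contra (hC : Data ρ A K) {a : G} (ha : a ∈ A) (hm : a ∉ Subgroup.normalizer (K : Set G))
    (h : ∀ z ∈ K, (orderOf z).Coprime 2 → ρ (psi a z) = 1) : False := by
  obtain ⟨g, hg, hne⟩ := hC.nontriv
  have hle : K ≤ (⊥ : Subgroup G) := qs_gen hC.qs (p := 2) ⊥ fun z hz hzo ⟨w, hw, hwne⟩ => by
    exfalso
    refine qs_not_comm hC.qs fun x hx y hy => ?_
    have hzc : ∀ u ∈ K, ρ (u * z * u⁻¹ * z⁻¹) = 1 := fun u hu => by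
      have h1 : ρ z * ρ (a * z * a⁻¹) = 1 := by rw [← map_mul]; exact h z hz hzo
      have h2 : ρ (a * z * a⁻¹) = ρ z⁻¹ := by
        calc ρ (a * z * a⁻¹) = ρ z⁻¹ * (ρ z * ρ (a * z * a⁻¹)) := by
              rw [← mul_assoc, ← map_mul, inv_mul_cancel, map_one, one_mul]
          _ = _ := by rw [h1, mul_one]
      have h3 : ρ u * ρ z⁻¹ = ρ z⁻¹ * ρ u := by
        rw [← h2, ← map_mul, ← map_mul, hC.cm ha hm hz hu]
      have h4 : ρ z * ρ z⁻¹ = 1 := by rw [← map_mul, mul_inv_cancel, map_one]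
      rw [map_mul, map_mul, map_mul, mul_assoc, mul_assoc (ρ u), ← mul_assoc (ρ z)]
      have h5 : ρ u⁻¹ * ρ z⁻¹ = ρ z⁻¹ * ρ u⁻¹ := by
        rw [← h2, ← map_mul, ← map_mul, hC.cm ha hm hz (K.inv_mem hu)]
      rw [mul_assoc (ρ z), h5, ← mul_assoc (ρ z), h4, one_mul, ← map_mul, mul_inv_cancel, map_one]
    rcases qs_z hC.qs (MonoidHom.eqLocus ρ 1) (fun u hu g hg hgS => show ρ (u * g * u⁻¹) = 1 by
      rw [map_mul, map_mul, show ρ g = 1 from hgS, mul_one, ← map_mul, mul_inv_cancel, map_one]) hz (fun u hu => hzc u hu) with h5 | h5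
    · exact absurd (h5 hg) hne
    · exact absurd (h5 w hw) hwne
  exact hne (by rw [Subgroup.mem_bot.1 (hle hg), map_one])

theorem Data.psi_pow (hC : Data ρ A K) {a : G} (ha : a ∈ A) (hm : a ∉ Subgroup.normalizer (K : Set G)) {z : G}
    (hz : z ∈ K) : ρ (psi a z) ^ orderOf z = 1 := by
  have h : ∀ i : ℕ, psi a z ^ i = psi a (z ^ i) := by
    intro i
    induction i with
    | zero => rw [pow_zero, pow_zero, hC.psi_one ha hm]
    | succ i ih => rw [pow_succ, pow_succ, ih, hC.psi_mul ha hm (K.pow_mem hz i) hz]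
  rw [← map_pow, h, pow_orderOf_eq_one, hC.psi_one ha hm, map_one]

/-- An element of `N_A(K)` nontrivial on `K` moves some vector fixed by `a` out of the fixed points of `K`. -/
theorem Counter.exists_vector (hC : Counter ρ A K) {a : G} (ha : a ∈ A) (hm : a ∉ Subgroup.normalizer (K : Set G))
    {b : G} (hb : b ∈ A) (hbN : b ∈ Subgroup.normalizer (K : Set G)) (hbK : ¬ ∀ g ∈ K, b * g = g * b) :
    ∃ x, ρ a x = x ∧ ∃ g ∈ K, ρ g (ρ b x - x) ≠ ρ b x - x := by
  by_contra hall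
  push Not at hall
  have hD := hC.toData
  have hd := hC.delta ha hm
  let F : V → Prop := fun v => ρ a v = v ∧ ∀ g ∈ K, ρ g v = v
  have hbx : ∀ x, ρ a x = x → F (ρ b x - x) := fun x hx => ⟨by
    rw [map_sub, ← Module.End.mul_apply, ← map_mul, hC.comm a ha b hb, map_mul, Module.End.mul_apply, hx],
    hall x hx⟩
  have hψF : ∀ z ∈ K, ∀ v, F v → ρ (psi a z) v = v := fun z hz v hv => by
    unfold psi
    rw [map_mul, map_mul, map_mul, Module.End.mul_apply, Module.End.mul_apply, Module.End.mul_apply, hD.inv_eq ha,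
      hv.1, hv.2 z hz, hv.1, hv.2 z hz]
  have hψa : ∀ z ∈ K, ∀ x, ρ a x = x → ρ a (ρ (psi a z) x) = ρ (psi a z) x := fun z hz x hx => by
    rw [← Module.End.mul_apply, ← map_mul, hD.psi_comm ha hm hz, map_mul, Module.End.mul_apply, hx]
  have hψψ : ∀ z ∈ K, ∀ x, ρ (psi a z⁻¹) (ρ (psi a z) x) = x ∧ ρ (psi a z) (ρ (psi a z⁻¹) x) = x := fun z hz x => by
    rw [← Module.End.mul_apply, ← map_mul, (hD.psi_inv ha hm hz).1, ← Module.End.mul_apply, ← map_mul,
      (hD.psi_inv ha hm hz).2, map_one, Module.End.one_apply]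
    exact ⟨rfl, rfl⟩
  have hFadd : ∀ u v, F u → F v → F (u + v) := fun u v hu hv =>
    ⟨by rw [map_add, hu.1, hv.1], fun g hg => by rw [map_add, hu.2 g hg, hv.2 g hg]⟩
  have hFneg : ∀ u, F u → F (-u) := fun u hu => ⟨by rw [map_neg, hu.1], fun g hg => by rw [map_neg, hu.2 g hg]⟩
  have hFsub : ∀ u v, F u → F v → F (u - v) := fun u v hu hv => sub_eq_add_neg u v ▸ hFadd _ _ hu (hFneg v hv)
  let S : Subgroup G :=
    { carrier := {z | z ∈ K ∧ ∀ x, ρ a x = x → F (ρ (psi a z) x - x)}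
      one_mem' := ⟨K.one_mem, fun x _ => by
        rw [hD.psi_one ha hm, map_one, Module.End.one_apply, sub_self]
        exact ⟨map_zero _, fun g _ => map_zero _⟩⟩
      mul_mem' := fun {z w} hz hw => ⟨K.mul_mem hz.1 hw.1, fun x hx => by
        rw [hD.psi_mul ha hm hz.1 hw.1, map_mul, Module.End.mul_apply,
          show ρ (psi a z) (ρ (psi a w) x) - x = ρ (psi a z) (ρ (psi a w) x - x) + (ρ (psi a z) x - x) by rw [map_sub]; abel,
          hψF z hz.1 _ (hw.2 x hx)]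
        exact hFadd _ _ (hw.2 x hx) (hz.2 x hx)⟩
      inv_mem' := fun {z} hz => ⟨K.inv_mem hz.1, fun x hx => by
        have h1 := hz.2 _ (hψa _ (K.inv_mem hz.1) x hx)
        rw [(hψψ z hz.1 x).2] at h1
        rw [← neg_sub]
        exact hFneg _ h1⟩ }
  have hSK : K ≤ S := by
    refine (qs_comm hC.qs S (fun u hu g hg hgS => ⟨K.mul_mem (K.mul_mem hu hg) (K.inv_mem hu), fun x hx => ?_⟩) b
      (fun g hg => conj_mem_of_normalizer hbN hg) fun z hz => ⟨K.mul_mem (conj_mem_of_normalizer hbN hz) (K.inv_mem hz), fun x hx => ?_⟩).resolve_right hbK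
    · rw [hD.psi_mul ha hm (K.mul_mem hu hg) (K.inv_mem hu), hD.psi_mul ha hm hu hg, map_mul, map_mul,
        Module.End.mul_apply, Module.End.mul_apply]
      obtain ⟨y, hy⟩ : ∃ y, y = ρ (psi a u⁻¹) x := ⟨_, rfl⟩
      have hyF := hgS.2 y (hy ▸ hψa _ (K.inv_mem hu) x hx)
      rw [← hy]
      conv => arg 1; arg 2; rw [← (hψψ u hu x).2, ← hy]
      rw [← map_sub, hψF u hu _ hyF]
      exact hyF
    · have hbb : ρ b⁻¹ = ρ b := by rw [hD.inv_eq hb]
      have heq : psi a (b * z * b⁻¹) = b * psi a z * b⁻¹ := by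
        unfold psi
        calc b * z * b⁻¹ * (a * (b * z * b⁻¹) * a⁻¹) = b * z * b⁻¹ * ((a * b) * z * (a * b)⁻¹) := by group
          _ = b * z * b⁻¹ * ((b * a) * z * (b * a)⁻¹) := by rw [hC.comm a ha b hb]
          _ = _ := by group
      rw [hD.psi_mul ha hm (conj_mem_of_normalizer hbN hz) (K.inv_mem hz), heq, map_mul, map_mul, map_mul,
        Module.End.mul_apply, Module.End.mul_apply, Module.End.mul_apply, hbb]
      obtain ⟨y, hy⟩ : ∃ y, y = ρ (psi a z⁻¹) x := ⟨_, rfl⟩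
      have hya : ρ a y = y := hy ▸ hψa _ (K.inv_mem hz) x hx
      rw [← hy]
      obtain ⟨w, hw⟩ : ∃ w, w = ρ b y := ⟨_, rfl⟩
      have hyw : y = ρ b w := by rw [hw, ← Module.End.mul_apply, hD.rho_sq hb, Module.End.one_apply]
      have hwa : ρ a w = w := by
        rw [hw, ← Module.End.mul_apply, ← map_mul, hC.comm a ha b hb, map_mul, Module.End.mul_apply, hya]
      rw [← hw]
      conv => arg 1; arg 2; rw [← (hψψ z hz x).2, ← hy, hyw, show ρ b w = w + (ρ b w - w) by abel, map_add,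
        hψF z hz _ (hbx w hwa)]
      rw [show ρ b (ρ (psi a z) w) - (ρ (psi a z) w + (ρ b w - w)) =
        (ρ b (ρ (psi a z) w) - ρ (psi a z) w) - (ρ b w - w) by abel]
      exact hFsub _ _ (hbx _ (hψa z hz w hwa)) (hbx w hwa)
  refine hD.psi_contra ha hm fun z hz hzo => ?_
  obtain ⟨δ, hδ⟩ : ∃ δ, δ = ρ (psi a z) := ⟨_, rfl⟩
  rw [← hδ]
  refine eq_one_of_cube hzo (hδ ▸ hD.psi_pow ha hm hz) (LinearMap.ext fun v => ?_)
  have h1 : ∀ v, ρ a ((δ - 1) v) = (δ - 1) v := fun v => by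
    have e : (ρ a - 1) * (δ - 1) = 0 := by
      rw [hδ, mul_sub, mul_one, ← hD.psi_n ha hm hz, hd z hz, sub_self]
    have := LinearMap.congr_fun e v
    rwa [Module.End.mul_apply, LinearMap.sub_apply, Module.End.one_apply, LinearMap.zero_apply, sub_eq_zero] at this
  rw [Module.End.mul_apply, Module.End.mul_apply, LinearMap.zero_apply, LinearMap.sub_apply δ 1 ((δ - 1) ((δ - 1) v)),
    Module.End.one_apply, sub_eq_zero]
  have hF : F ((δ - 1) ((δ - 1) v)) := by
    rw [LinearMap.sub_apply δ 1 ((δ - 1) v), Module.End.one_apply, hδ]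
    exact (hSK hz).2 _ (hδ ▸ h1 v)
  nth_rewrite 1 [hδ]
  exact hψF z hz _ hF

/-- The image of `a - 1` is not fixed by `K`. -/
theorem Counter.not_killed (hC : Counter ρ A K) {a : G} (ha : a ∈ A) (hm : a ∉ Subgroup.normalizer (K : Set G)) :
    ∃ g ∈ K, ρ g * (ρ a - 1) ≠ ρ a - 1 := by
  by_contra hall
  push Not at hall
  have hD := hC.toData
  refine hD.moved_contra ha hm fun z hz hzo _ => ?_
  obtain ⟨n, hn⟩ : ∃ n, n = ρ a - 1 := ⟨_, rfl⟩
  have han : ρ a * n = n := by rw [hn, mul_sub, mul_one, hD.rho_sq ha, end_sub_eq_add, end_sub_eq_add, add_comm]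
  have hfix : ∀ g, g ∈ K → ρ g * n = n := fun g hg => hn ▸ hall g hg
  have hfix' : ∀ g ∈ K, ρ (a * g * a⁻¹) * n = n := fun g hg => by
    rw [map_mul, map_mul, hD.inv_eq ha, mul_assoc, han, mul_assoc, hfix g hg, han]
  obtain ⟨w, hw⟩ : ∃ w, w = z * (a * z * a⁻¹)⁻¹ := ⟨_, rfl⟩
  have hwn : ρ w * n = n := by
    rw [hw, map_mul, mul_assoc, show (a * z * a⁻¹)⁻¹ = a * z⁻¹ * a⁻¹ by group, hfix' _ (K.inv_mem hz), hfix z hz]
  have hA : ∀ X : Module.End (ZMod 2) V, X * n = n → X * ρ a = X + ρ a - 1 := fun X hX => by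
    rw [hn, mul_sub, mul_one, sub_eq_iff_eq_add] at hX
    rw [hX]; abel
  -- conjugates of `n` by `z` are fixed as well
  have hconj : ∀ g, (ρ g * n = n) → ρ (z⁻¹ * g * z) * n = n → ρ g * (ρ w - 1) = ρ w - 1 := by
    intro g hgn hg
    have h1 : ρ g * (ρ z * n * ρ z⁻¹) = ρ z * n * ρ z⁻¹ := by
      conv_rhs => rw [← hg, ← mul_assoc, ← map_mul]
      rw [← mul_assoc, ← mul_assoc, ← map_mul, show z * (z⁻¹ * g * z) = g * z by group]
    have h2 : ρ z * n * ρ z⁻¹ = ρ w * ρ a - 1 := by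
      rw [hn, mul_sub, sub_mul, mul_one, ← map_mul, ← map_mul, ← map_mul, ← map_mul, mul_inv_cancel, map_one, hw]
      congr 2
      group
    rw [h2, mul_sub, mul_one, ← mul_assoc, hA (ρ g * ρ w) (by rw [mul_assoc, hwn, hgn]), hA (ρ w) hwn] at h1
    rw [mul_sub, mul_one]
    linear_combination (norm := abel) h1
  obtain ⟨h, hh⟩ : ∃ h, h = ρ z - ρ (a * z * a⁻¹) := ⟨_, rfl⟩
  have e1 := hconj z (hfix z hz) (by rw [inv_mul_cancel, one_mul]; exact hfix z hz)
  have e2 := hconj (a * z * a⁻¹) (hfix' z hz) (by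
    rw [mul_assoc z⁻¹, hD.cm ha hm hz hz, ← mul_assoc, inv_mul_cancel, one_mul]
    exact hfix' z hz)
  have e3 : h * (ρ w - 1) = 0 := by rw [hh, sub_mul, e1, e2, sub_self]
  have hcw : Commute (a * z * a⁻¹) z := hD.cm ha hm hz hz
  have hwT : ρ w ^ orderOf z = 1 := by
    rw [hw, ← map_pow, hcw.symm.inv_right.mul_pow, inv_pow, show a * z * a⁻¹ = MulAut.conj a z from rfl, ← map_pow,
      pow_orderOf_eq_one, map_one, inv_one, one_mul, map_one]
  have hT1 := eq_one_of_sq hzo hwT (by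
    have e4 : ρ w - 1 = ρ (a * z * a⁻¹)⁻¹ * h := by
      rw [hh, mul_sub, ← map_mul, ← map_mul, inv_mul_cancel, map_one, hw, hcw.symm.inv_right.eq]
    calc (ρ w - 1) * (ρ w - 1) = ρ (a * z * a⁻¹)⁻¹ * (h * (ρ w - 1)) := by rw [← mul_assoc, ← e4]
      _ = 0 := by rw [e3, mul_zero])
  rw [hw, map_mul] at hT1
  calc ρ (a * z * a⁻¹) = ρ z * ρ (a * z * a⁻¹)⁻¹ * ρ (a * z * a⁻¹) := by rw [hT1, one_mul]
    _ = ρ z := by rw [mul_assoc, ← map_mul, inv_mul_cancel, map_one, mul_one]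

/-- All of `A` commutes with the traces. -/
theorem Counter.tr_comm_A (hC : Counter ρ A K) {z c : G} (hz : z ∈ K) (hc : c ∈ A) : ρ c * tr ρ z = tr ρ z * ρ c := by
  by_cases hcN : c ∈ Subgroup.normalizer (K : Set G)
  swap
  · exact hC.tr_comm_moving hz hc hcN
  obtain ⟨a, ha, hm⟩ := hC.moves
  obtain ⟨n, hn⟩ : ∃ n, n = ρ a - 1 := ⟨_, rfl⟩
  have hD := hC.toData
  have step : ∀ b ∈ A, b ∈ Subgroup.normalizer (K : Set G) → ∀ x0 : V, ρ b x0 = x0 →
      (∀ w ∈ K, ρ b (tr ρ w x0) = tr ρ w x0) → (∃ g ∈ K, ρ g x0 ≠ x0) → ∀ w ∈ K, ρ b * tr ρ w = tr ρ w * ρ b := by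
    intro b hb hbN x0 hb0 hbt hnk w hw
    have hbw : ∀ w ∈ K, b * w * b⁻¹ ∈ K := fun w hw => conj_mem_of_normalizer hbN hw
    let U : Submodule (ZMod 2) V :=
      { carrier := {v | ∀ w ∈ K, tr ρ (b * w * b⁻¹) v = tr ρ w v}
        zero_mem' := fun w _ => by rw [map_zero, map_zero]
        add_mem' := fun {x y} hx hy w hw => by rw [map_add, map_add, hx w hw, hy w hw]
        smul_mem' := fun r x hx w hw => by rw [map_smul, map_smul, hx w hw] }
    have hUi : Inv ρ A K U := by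
      refine ⟨fun c hc v hv w hw => ?_, fun g hg v hv w hw => ?_⟩
      · by_cases hcN : c ∈ Subgroup.normalizer (K : Set G)
        · have e : ∀ u : G, tr ρ u (ρ c v) = ρ c (tr ρ (c⁻¹ * u * c) v) := fun u => by
            rw [← Module.End.mul_apply, ← Module.End.mul_apply]
            congr 1
            have h1 := tr_conj_eq (ρ := ρ) c (c⁻¹ * u * c)
            rw [show c * (c⁻¹ * u * c) * c⁻¹ = u by group] at h1
            rw [← h1, mul_assoc, ← map_mul, inv_mul_cancel, map_one, mul_one]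
          rw [e, e, show c⁻¹ * (b * w * b⁻¹) * c = b * (c⁻¹ * w * c) * b⁻¹ by
            calc c⁻¹ * (b * w * b⁻¹) * c = (c⁻¹ * b) * w * (c⁻¹ * b)⁻¹ := by group
              _ = (b * c⁻¹) * w * (b * c⁻¹)⁻¹ := by rw [hC.comm _ (A.inv_mem hc) b hb]
              _ = _ := by group, hv _ ?_]
          have := conj_mem_of_normalizer ((Subgroup.normalizer (K : Set G)).inv_mem hcN) hw
          rwa [inv_inv] at this
        · rw [← Module.End.mul_apply, ← hC.tr_comm_moving (hbw w hw) hc hcN, Module.End.mul_apply, hv w hw,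
            ← Module.End.mul_apply, hC.tr_comm_moving hw hc hcN, Module.End.mul_apply]
      · rw [← Module.End.mul_apply, ← hC.tr_comm (hbw w hw) hg, Module.End.mul_apply, hv w hw,
          ← Module.End.mul_apply, hC.tr_comm hw hg, Module.End.mul_apply]
    have hx0 : x0 ∈ U := fun w hw => by
      have hbi : ρ b⁻¹ x0 = x0 := by rw [hD.inv_eq hb, hb0]
      rw [← tr_conj_eq, Module.End.mul_apply, Module.End.mul_apply, hbi, hbt w hw]
    rcases hC.irr U hUi with h | h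
    · have h1 : tr ρ (b * w * b⁻¹) = tr ρ w := LinearMap.ext fun v => (h ▸ Submodule.mem_top : v ∈ U) w hw
      rw [← tr_conj_eq] at h1
      conv_rhs => rw [← h1, mul_assoc, ← map_mul, inv_mul_cancel, map_one, mul_one]
    · obtain ⟨g, hg, hne⟩ := hnk
      exact absurd (h g hg x0 hx0) hne
  by_cases hcK : ∀ g ∈ K, c * g = g * c
  · rw [hC.cent hc hcK, one_mul, mul_one]
  obtain ⟨g, hg, hgn⟩ := hC.not_killed ha hm
  rw [← hn] at hgn
  obtain ⟨y, hy⟩ : ∃ y, ρ g (n y) ≠ n y := by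
    by_contra h; push Not at h; exact hgn (LinearMap.ext h)
  have htn : ∀ w ∈ K, tr ρ w * n = n * tr ρ w := fun w hw => by
    rw [hn, mul_sub, sub_mul, mul_one, one_mul, hC.tr_comm_moving hw ha hm]
  have hlin0 : ∀ b ∈ A, b ∈ Subgroup.normalizer (K : Set G) → ρ b * n = n → ∀ w ∈ K, ρ b * tr ρ w = tr ρ w * ρ b :=
    fun b hb hbN hbn => step b hb hbN (n y) (by rw [← Module.End.mul_apply, hbn]) (fun w hw => by
      rw [← Module.End.mul_apply (tr ρ w), htn w hw, ← Module.End.mul_apply, ← mul_assoc, hbn]) ⟨g, hg, hy⟩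
  rcases hC.star with h | ⟨b0, hb0, hb0N, hb0K, hann⟩
  · exact hlin0 c hc hcN (hn ▸ h a ha c hc) z hz
  have hb0t := hlin0 b0 hb0 hb0N (hn ▸ hann a ha)
  obtain ⟨x, hx, g0, hg0, hne0⟩ := hC.exists_vector ha hm hb0 hb0N hb0K
  have haR : a ∈ repl ρ A {u : V | ρ a u = u} := by
    refine ⟨ha, ?_⟩
    rintro _ ⟨d, hd, u, hu, rfl⟩
    rw [map_sub, ← Module.End.mul_apply, ← map_mul, hC.comm a ha d hd, map_mul, Module.End.mul_apply, (hu : ρ a u = u)]
  have hfix : ∀ u, ρ a u = u → ρ c (ρ b0 u - u) = ρ b0 u - u := fun u hu =>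
    ((hC.repl_eq _ haR hm).symm ▸ hc : c ∈ repl ρ A {u : V | ρ a u = u}).2 _ ⟨b0, hb0, u, hu, rfl⟩
  refine step c hc hcN (ρ b0 x - x) (hfix x hx) (fun w hw => ?_) ⟨g0, hg0, hne0⟩ z hz
  rw [map_sub (tr ρ w), ← Module.End.mul_apply, ← hb0t w hw, Module.End.mul_apply]
  exact hfix _ (by rw [← Module.End.mul_apply, hC.tr_comm_moving hw ha hm, Module.End.mul_apply, hx])

/-- The operators commuting with `A` and `K`. -/
def cfield (ρ : Representation (ZMod 2) G V) (A K : Subgroup G) : Subring (Module.End (ZMod 2) V) :=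
  Subring.centralizer (ρ '' ((A : Set G) ∪ K))

theorem mem_cfield {s : Module.End (ZMod 2) V} :
    s ∈ cfield ρ A K ↔ (∀ c ∈ A, ρ c * s = s * ρ c) ∧ ∀ g ∈ K, ρ g * s = s * ρ g := by
  rw [cfield, Subring.mem_centralizer_iff]
  constructor
  · exact fun h => ⟨fun c hc => h _ ⟨c, Or.inl hc, rfl⟩, fun g hg => h _ ⟨g, Or.inr hg, rfl⟩⟩
  · rintro h _ ⟨c, hc | hc, rfl⟩
    exacts [h.1 c hc, h.2 c hc]

theorem Counter.tr_mem (hC : Counter ρ A K) {z : G} (hz : z ∈ K) : tr ρ z ∈ cfield ρ A K :=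
  mem_cfield.2 ⟨fun c hc => hC.tr_comm_A hz hc, fun g hg => hC.tr_comm hz hg⟩

theorem Counter.cfield_bij (hC : Counter ρ A K) {s : Module.End (ZMod 2) V} (hs : s ∈ cfield ρ A K) (h0 : s ≠ 0) :
    Function.Bijective s := by
  rw [mem_cfield] at hs
  have hcomm : ∀ c, ρ c * s = s * ρ c → ∀ x, ρ c (s x) = s (ρ c x) := fun c h x => LinearMap.congr_fun h x
  rcases hC.irr (LinearMap.ker s) ⟨fun c hc x hx => by
      rw [LinearMap.mem_ker] at hx ⊢; rw [← hcomm c (hs.1 c hc), hx, map_zero],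
    fun c hc x hx => by rw [LinearMap.mem_ker] at hx ⊢; rw [← hcomm c (hs.2 c hc), hx, map_zero]⟩ with h | h
  · exact absurd (LinearMap.ker_eq_top.1 h) h0
  have hsurj : Function.Surjective s := by
    rcases hC.irr (LinearMap.range s) ⟨fun c hc x ⟨y, hy⟩ => ⟨ρ c y, by rw [← hy, hcomm c (hs.1 c hc)]⟩,
      fun c hc x ⟨y, hy⟩ => ⟨ρ c y, by rw [← hy, hcomm c (hs.2 c hc)]⟩⟩ with h' | h'
    · exact LinearMap.range_eq_top.1 h'
    exfalso
    refine hC.toData.not_comm_image fun g hg f hf => ?_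
    have hk : ∀ g ∈ K, ∀ x, ρ g x - x ∈ LinearMap.ker s := fun g hg x => by
      rw [LinearMap.mem_ker, map_sub, ← hcomm g (hs.2 g hg), h' g hg _ (LinearMap.mem_range_self s x), sub_self]
    refine LinearMap.ext fun x => ?_
    have e1 : ρ g (ρ f x - x) = ρ f x - x := h g hg _ (hk f hf x)
    have e2 : ρ f (ρ g x - x) = ρ g x - x := h f hf _ (hk g hg x)
    rw [map_sub, sub_eq_iff_eq_add] at e1 e2
    rw [Module.End.mul_apply, Module.End.mul_apply, e1, e2]
    abel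
  exact ⟨Finite.injective_iff_surjective.2 hsurj, hsurj⟩

theorem Counter.cfield_isField (hC : Counter ρ A K) : IsField (cfield ρ A K) := by
  haveI : Nontrivial (cfield ρ A K) := by
    refine ⟨0, 1, fun h => ?_⟩
    obtain ⟨g, hg, hne⟩ := hC.nontriv
    have h1 : (1 : Module.End (ZMod 2) V) = 0 := (congrArg Subtype.val h).symm
    refine hne ?_
    rw [← mul_one (ρ g), h1, mul_zero]
  haveI : NoZeroDivisors (cfield ρ A K) := ⟨fun {s r} h => by
    by_cases h0 : (s : Module.End (ZMod 2) V) = 0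
    · exact Or.inl (Subtype.ext h0)
    refine Or.inr (Subtype.ext (LinearMap.ext fun x => (hC.cfield_bij s.2 h0).1 ?_))
    rw [← Module.End.mul_apply, show (s : Module.End (ZMod 2) V) * r = 0 from congrArg Subtype.val h]
    simp⟩
  haveI : IsDomain (cfield ρ A K) := NoZeroDivisors.to_isDomain _
  haveI : Finite (Module.End (ZMod 2) V) := Finite.of_injective _ DFunLike.coe_injective
  exact Finite.isDomain_to_isField _

end CfsgLib.LocalEvenB.PGV
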