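import Cfsg.Agent.Lib.LocalEvenB.PGV.TwoAlgebra

/-!
# The P(G,V)-theorem for the prime two: conclusion
-/

set_option autoImplicit false
set_option linter.all false
set_option maxHeartbeats 800000

namespace CfsgLib.LocalEvenB.PGV

universe u v

variable {G : Type u} [Group G] [Finite G] [Fact (Nat.Prime 2)]
  {V : Type v} [AddCommGroup V] [Module (ZMod 2) V] [Finite V]
  {ρ : Representation (ZMod 2) G V} {A K : Subgroup G}

local notation "E2" => Module.End (ZMod 2) V

theorem perm_le_three_comm {S : Type*} [Fintype S] [DecidableEq S] (h : Fintype.card S ≤ 3) (σ τ : Equiv.Perm S)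
    (hσ : Equiv.Perm.sign σ = 1) (hτ : Equiv.Perm.sign τ = 1) : σ * τ = τ * σ := by
  have key : ∀ n, n ≤ 3 → ∀ σ τ : Equiv.Perm (Fin n), Equiv.Perm.sign σ = 1 → Equiv.Perm.sign τ = 1 → σ * τ = τ * σ := by
    intro n hn
    interval_cases n <;> decide
  have e := Fintype.equivFin S
  have h1 := key _ h (e.permCongr σ) (e.permCongr τ) (by rw [Equiv.Perm.sign_permCongr, hσ])
    (by rw [Equiv.Perm.sign_permCongr, hτ])
  exact (e.permCongrHom).injective (by rw [map_mul, map_mul]; exact h1)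

/-- A minimal counterexample for the prime two does not exist. -/
theorem Counter.two_false (hC : Counter ρ A K) : False := by
  classical
  haveI : Finite (Module.End (ZMod 2) V) := Finite.of_injective _ DFunLike.coe_injective
  obtain ⟨a, ha, hm⟩ := hC.moves
  have hD := hC.toData
  obtain ⟨η, hη, hTη, hη2, hη0, hfix⟩ := exists_nilpotent hC
  obtain ⟨x, hx, hTx, hx2, hanti⟩ := exists_dual hC ha hm hη hTη hη2 hη0 hfix
  obtain ⟨C, hCdef⟩ : ∃ C, C = cfield ρ A K := ⟨_, rfl⟩
  obtain ⟨Kr, hKr⟩ : ∃ Kr, Kr = A ⊓ MonoidHom.eqLocus ρ 1 := ⟨_, rfl⟩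
  obtain ⟨A0, hA0⟩ : ∃ A0, A0 = A ⊓ Subgroup.normalizer (K : Set G) := ⟨_, rfl⟩
  have hcent : ∀ b ∈ A, b ∈ Subgroup.normalizer (K : Set G) → (∀ g ∈ K, ρ b * ρ g = ρ g * ρ b) → ρ b = 1 := by
    intro b hb hbN hbc
    refine hC.cent hb ((qs_comm hC.qs (MonoidHom.eqLocus ρ 1) (fun u hu g hg hgS => ?_) b
      (fun g hg => conj_mem_of_normalizer hbN hg) fun z hz => ?_).resolve_left fun hle => ?_)
    · show ρ (u * g * u⁻¹) = 1
      rw [map_mul, map_mul, show ρ g = 1 from hgS, mul_one, ← map_mul, mul_inv_cancel, map_one]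
    · show ρ (b * z * b⁻¹ * z⁻¹) = 1
      rw [map_mul, map_mul, map_mul, hbc z hz, mul_assoc (ρ z), ← map_mul ρ b, mul_inv_cancel, map_one, mul_one,
        ← map_mul, mul_inv_cancel, map_one]
    · obtain ⟨g, hg, hne⟩ := hC.nontriv
      exact hne (hle hg)
  -- the action of `N_A(K)` on `x`
  have halpha : ∀ b ∈ A0, ∃ α ∈ C, ρ b * x * ρ b = x + α + α * α * η := by
    intro b hbA0
    rw [hA0] at hbA0
    obtain ⟨hb, hbN⟩ := hbA0
    obtain ⟨hR, hT⟩ := inR_conj hC hb hbN hx
    obtain ⟨α, hα, γ, hγ, δ, hδ, heq⟩ := span_four hC hη hTη hη2 hx hTx hx2 hanti hR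
    rw [hT, hTx, zero_mul, add_zero] at heq
    have hb2 := hD.rho_sq hb
    have hbη := hfix b hb hbN
    have hbη' : ρ b * η * ρ b = η := by rw [hbη, mul_assoc, hb2, mul_one]
    have hsq : (α + γ * η + δ * x) * (α + γ * η + δ * x) = 0 := by
      rw [← heq]
      calc ρ b * x * ρ b * (ρ b * x * ρ b) = ρ b * x * (ρ b * ρ b) * x * ρ b := by simp only [mul_assoc]
        _ = 0 := by rw [hb2, mul_one, mul_assoc (ρ b), hx2, mul_zero, zero_mul]
    have hδ1 : δ = 1 := by
      have e : η * (ρ b * x * ρ b) + ρ b * x * ρ b * η = 1 := by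
        calc η * (ρ b * x * ρ b) + ρ b * x * ρ b * η = (ρ b * η * ρ b) * (ρ b * x * ρ b) + ρ b * x * ρ b * (ρ b * η * ρ b) := by
              rw [hbη']
          _ = ρ b * η * (ρ b * ρ b) * x * ρ b + ρ b * x * (ρ b * ρ b) * η * ρ b := by simp only [mul_assoc]
          _ = ρ b * (η * x + x * η) * ρ b := by rw [hb2, mul_one, mul_one]; simp only [mul_add, add_mul, mul_assoc]
          _ = 1 := by rw [hanti, mul_one, hb2]
      rw [heq] at e
      simp only [mul_add, add_mul, ← mul_assoc η, inR_comm hC hη hα, inR_comm hC hη hγ, inR_comm hC hη hδ] at e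
      rw [mul_assoc γ, mul_assoc δ, mul_assoc δ, hη2, mul_zero] at e
      calc δ = δ * (η * x + x * η) := by rw [hanti, mul_one]
        _ = α * η + 0 + δ * (η * x) + (α * η + 0 + δ * (x * η)) := by
          rw [mul_add, show α * η + 0 + δ * (η * x) + (α * η + 0 + δ * (x * η)) =
            (α * η + α * η) + (δ * (η * x) + δ * (x * η)) by abel, end_add_self, zero_add]
        _ = 1 := e
    subst hδ1
    rw [one_mul] at hsq heq
    have hcγ : ∀ s, InR ρ A K s → s * γ = γ * s := fun s hs => inR_comm hC hs hγ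
    have hcα : ∀ s, InR ρ A K s → s * α = α * s := fun s hs => inR_comm hC hs hα
    have hγα : γ = α * α := by
      have e : (α + γ * η + x) * (α + γ * η + x) = α * α + γ := by
        calc (α + γ * η + x) * (α + γ * η + x)
            = α * α + (α * (γ * η) + γ * η * α) + (α * x + x * α) + γ * (η * γ) * η + (γ * η * x + x * γ * η) + x * x := by
              simp only [mul_add, add_mul, mul_assoc]; abel
          _ = α * α + (α * γ * η + α * γ * η) + (α * x + α * x) + γ * γ * (η * η) + γ * (η * x + x * η) := by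
              rw [hx2, add_zero, hcα x hx, hcγ η hη, hcγ x hx, mul_assoc γ η α, hcα η hη, mul_add γ (η * x)]
              rw [show γ * (α * η) = α * γ * η by
                rw [← mul_assoc, hcα γ (inR_cfield hC hγ).1]]
              simp only [mul_assoc]
          _ = _ := by rw [end_add_self, end_add_self, hη2, mul_zero, add_zero, add_zero, add_zero, hanti, mul_one]
      rw [hsq] at e
      calc γ = γ + (α * α + γ) := by rw [← e, add_zero]
        _ = α * α + (γ + γ) := by abel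
        _ = _ := by rw [end_add_self, add_zero]
    exact ⟨α, hCdef ▸ hα, by rw [heq, hγα]; abel⟩
  have hcardA : Nat.card A ≤ 2 * Nat.card A0 := by
    have hcov : ∀ c : A, (c : G) ∉ A0 → a * c ∈ A0 := fun c hc => by
      rw [hA0] at hc ⊢
      exact ⟨A.mul_mem ha c.2, hC.index_two ha hm c.2 fun h => hc ⟨c.2, h⟩⟩
    have hinj : Function.Injective (fun c : A => if hc : (c : G) ∈ A0 then ((true, ⟨c, hc⟩) : Bool × A0) else
        (false, ⟨a * c, hcov c hc⟩)) := by
      intro c d hcd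
      beta_reduce at hcd
      by_cases hc : (c : G) ∈ A0 <;> by_cases hd : (d : G) ∈ A0 <;> simp [hc, hd] at hcd
      · exact hcd
      · exact hcd
    have := Nat.card_le_card_of_injective _ hinj
    rwa [Nat.card_prod, Nat.card_eq_fintype_card (α := Bool), Fintype.card_bool] at this
  have hcardA0 : Nat.card A0 ≤ Nat.card C * Nat.card Kr := by
    choose f hf hfeq using halpha
    let F : A0 ⧸ Kr.subgroupOf A0 → C := fun c => ⟨f c.out c.out.2, hf _ _⟩
    have hinj : Function.Injective F := by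
      intro c d h
      rw [← QuotientGroup.out_eq' c, ← QuotientGroup.out_eq' d, QuotientGroup.eq]
      obtain ⟨b, hbd⟩ : ∃ b : A0, b = c.out := ⟨_, rfl⟩
      obtain ⟨b', hb'd⟩ : ∃ b' : A0, b' = d.out := ⟨_, rfl⟩
      rw [← hbd, ← hb'd]
      have h1 : f b b.2 = f b' b'.2 := by subst hbd; subst hb'd; exact congrArg Subtype.val h
      have h2 : ρ (b : G) * x * ρ b = ρ (b' : G) * x * ρ b' := by rw [hfeq b b.2, hfeq b' b'.2, h1]
      have hbm := (hA0 ▸ b.2 : (b : G) ∈ A ⊓ Subgroup.normalizer (K : Set G))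
      have hbm' := (hA0 ▸ b'.2 : (b' : G) ∈ A ⊓ Subgroup.normalizer (K : Set G))
      obtain ⟨e, he⟩ : ∃ e, e = (b : G)⁻¹ * b' := ⟨_, rfl⟩
      have heA : e ∈ A := he ▸ A.mul_mem (A.inv_mem hbm.1) hbm'.1
      have heN : e ∈ Subgroup.normalizer (K : Set G) :=
        he ▸ (Subgroup.normalizer (K : Set G)).mul_mem ((Subgroup.normalizer (K : Set G)).inv_mem hbm.2) hbm'.2
      show (b : G)⁻¹ * b' ∈ Kr
      rw [← he, hKr]
      refine ⟨heA, hcent e heA heN fun g hg => ?_⟩
      have hxe : ρ e * x * ρ e = x := by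
        rw [he, hD.inv_eq hbm.1, map_mul]
        conv_lhs => arg 2; rw [← map_mul, hC.comm _ hbm.1 _ hbm'.1, map_mul]
        calc ρ (b : G) * ρ (b' : G) * x * (ρ (b' : G) * ρ (b : G)) = ρ (b : G) * (ρ (b' : G) * x * ρ (b' : G)) * ρ (b : G) := by
              simp only [mul_assoc]
          _ = (ρ (b : G) * ρ (b : G)) * x * (ρ (b : G) * ρ (b : G)) := by rw [← h2]; simp only [mul_assoc]
          _ = x := by rw [hD.rho_sq hbm.1, one_mul, mul_one]
      refine comm_K_of_comm hC hη hTη hη2 hx hTx hx2 hanti (fun s hs => (mem_cfield.1 hs).1 e heA) (hfix e heA heN) ?_ hg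
      calc ρ e * x = ρ e * x * ρ e * ρ e := by rw [mul_assoc _ (ρ e), hD.rho_sq heA, mul_one]
        _ = x * ρ e := by rw [hxe]
    have h1 := Nat.card_le_card_of_injective _ hinj
    have h2 := Subgroup.card_mul_index (Kr.subgroupOf A0)
    have hle : Kr ≤ A0 := by
      rw [hKr, hA0]
      exact fun c hc => ⟨hc.1, not_not.1 fun h => hD.moved_ne_one hc.1 h hc.2⟩
    rw [Nat.card_congr (Subgroup.subgroupOfEquivOfLe hle).toEquiv, Subgroup.index] at h2
    rw [← h2, mul_comm (Nat.card C)]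
    exact Nat.mul_le_mul_left _ h1
  have hfixKr : fixSub ρ Kr = ⊤ := eq_top_iff.2 fun v _ c hc => by
    rw [hKr] at hc
    rw [show ρ c = 1 from hc.2, Module.End.one_apply]
  have hbest := hC.best Kr (hKr ▸ inf_le_left)
  unfold meas at hbest
  rw [hfixKr, Nat.card_congr (Submodule.topEquiv (R := ZMod 2) (M := V)).toEquiv] at hbest
  obtain ⟨n, hn⟩ : ∃ n, n = ρ a - 1 := ⟨_, rfl⟩
  have hsn : ∀ s ∈ C, ∀ v, s (n v) = n (s v) := fun s hs v => by
    rw [hCdef] at hs
    rw [← Module.End.mul_apply, ← Module.End.mul_apply]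
    congr 1
    rw [hn, mul_sub, sub_mul, mul_one, one_mul, (mem_cfield.1 hs).1 a ha]
  have horb : ∀ (W : Submodule (ZMod 2) V) (v0 : V), v0 ≠ 0 → (∀ s ∈ C, s v0 ∈ W) → Nat.card C ≤ Nat.card W := by
    intro W v0 hv0 hW
    refine Nat.card_le_card_of_injective (fun s : C => (⟨(s : E2) v0, hW s s.2⟩ : W)) fun s s' h => ?_
    by_contra hne
    have h1 : ((s : E2) - s') v0 = 0 := by rw [LinearMap.sub_apply, sub_eq_zero]; exact congrArg Subtype.val h
    have h2 : (s : E2) - s' ≠ 0 := sub_ne_zero.2 fun h => hne (Subtype.ext h)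
    exact hv0 ((hC.cfield_bij (hCdef ▸ C.sub_mem s.2 s'.2) h2).1 (by rw [h1, map_zero]))
  obtain ⟨y, hy⟩ : ∃ y, n y ≠ 0 := by
    by_contra h
    push Not at h
    exact hD.moved_ne_one ha hm (sub_eq_zero.1 (hn ▸ (LinearMap.ext h : n = 0)))
  have hVn : Nat.card C * Nat.card (LinearMap.ker n) ≤ Nat.card V := by
    rw [Submodule.card_eq_card_quotient_mul_card (LinearMap.ker n), Nat.card_congr n.quotKerEquivRange.toEquiv]
    have hr := horb (LinearMap.range n) (n y) hy fun s hs => hsn s hs y ▸ LinearMap.mem_range_self n _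
    calc Nat.card C * Nat.card (LinearMap.ker n) ≤ Nat.card (LinearMap.range n) * Nat.card (LinearMap.ker n) :=
          Nat.mul_le_mul_right _ hr
      _ = _ := by first | rfl | exact mul_comm _ _
  have hker : fixSub ρ A ≤ LinearMap.ker n := fun v hv => by
    rw [LinearMap.mem_ker, hn, LinearMap.sub_apply, Module.End.one_apply, hv a ha, sub_self]
  have hcard : Nat.card C ≤ 2 := by
    by_cases hall : ∀ b ∈ A0, ρ b = 1
    · have hle : Nat.card A0 ≤ Nat.card Kr := Nat.card_le_card_of_injective _ (Subgroup.inclusion_injective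
        (fun c hc => hKr ▸ ⟨(hA0 ▸ hc : c ∈ A ⊓ Subgroup.normalizer (K : Set G)).1, hall c hc⟩ : A0 ≤ Kr))
      have e2 : Nat.card (fixSub ρ A) ≤ Nat.card (LinearMap.ker n) :=
        Nat.card_le_card_of_injective _ (Submodule.inclusion_injective hker)
      refine Nat.le_of_mul_le_mul_left (c := Nat.card Kr * Nat.card (LinearMap.ker n)) ?_ (Nat.mul_pos Nat.card_pos Nat.card_pos)
      calc Nat.card Kr * Nat.card (LinearMap.ker n) * Nat.card C = Nat.card Kr * (Nat.card C * Nat.card (LinearMap.ker n)) := by ring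
        _ ≤ Nat.card Kr * Nat.card V := Nat.mul_le_mul_left _ hVn
        _ ≤ Nat.card A * Nat.card (fixSub ρ A) := hbest
        _ ≤ 2 * Nat.card Kr * Nat.card (LinearMap.ker n) := Nat.mul_le_mul (hcardA.trans (Nat.mul_le_mul_left _ hle)) e2
        _ = _ := by ring
    push Not at hall
    obtain ⟨b, hbA0, hb1⟩ := hall
    obtain ⟨hb, hbN⟩ := (hA0 ▸ hbA0 : b ∈ A ⊓ Subgroup.normalizer (K : Set G))
    obtain ⟨x0, hx0, g, hg, hgne⟩ := hC.exists_vector ha hm hb hbN fun h => hb1 (hC.cent hb h)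
    have hx0n : x0 ∈ LinearMap.ker n := by
      rw [LinearMap.mem_ker, hn, LinearMap.sub_apply, Module.End.one_apply, hx0, sub_self]
    let f : ↥(LinearMap.ker n) →ₗ[ZMod 2] V := (ρ b - 1).comp (LinearMap.ker n).subtype
    have h1 : Nat.card C ≤ Nat.card (LinearMap.range f) := by
      refine horb _ (ρ b x0 - x0) (fun h => hgne (by rw [h, map_zero])) fun s hs => ⟨⟨s x0, ?_⟩, ?_⟩
      · rw [LinearMap.mem_ker, ← hsn s hs, LinearMap.mem_ker.1 hx0n, map_zero]
      · show (ρ b - 1) (s x0) = s (ρ b x0 - x0)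
        rw [LinearMap.sub_apply, Module.End.one_apply, map_sub]
        congr 1
        exact LinearMap.congr_fun ((mem_cfield.1 (hCdef ▸ hs : s ∈ cfield ρ A K)).1 b hb) x0
    have h2 : Nat.card (fixSub ρ A) ≤ Nat.card (LinearMap.ker f) := by
      refine Nat.card_le_card_of_injective (fun v => ⟨⟨(v : V), hker v.2⟩, ?_⟩) fun v v' h => ?_
      · show (ρ b - 1) (v : V) = 0
        rw [LinearMap.sub_apply, Module.End.one_apply, v.2 b hb, sub_self]
      · exact Subtype.ext (congrArg (fun z : LinearMap.ker f => ((z : ↥(LinearMap.ker n)) : V)) h)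
    have h3 : Nat.card C * Nat.card (fixSub ρ A) ≤ Nat.card (LinearMap.ker n) := by
      have e := Submodule.card_eq_card_quotient_mul_card (LinearMap.ker f)
      rw [Nat.card_congr f.quotKerEquivRange.toEquiv] at e
      rw [e]
      exact (Nat.mul_le_mul h1 h2).trans_eq (by first | rfl | exact mul_comm _ _)
    refine Nat.le_of_mul_le_mul_left (c := Nat.card C * Nat.card Kr * Nat.card (fixSub ρ A)) ?_
      (Nat.mul_pos (Nat.mul_pos Nat.card_pos Nat.card_pos) Nat.card_pos)
    calc Nat.card C * Nat.card Kr * Nat.card (fixSub ρ A) * Nat.card C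
        = Nat.card Kr * (Nat.card C * (Nat.card C * Nat.card (fixSub ρ A))) := by ring
      _ ≤ Nat.card Kr * Nat.card V := Nat.mul_le_mul_left _ ((Nat.mul_le_mul_left _ h3).trans hVn)
      _ ≤ Nat.card A * Nat.card (fixSub ρ A) := hbest
      _ ≤ 2 * (Nat.card C * Nat.card Kr) * Nat.card (fixSub ρ A) :=
          Nat.mul_le_mul_right _ (hcardA.trans (Nat.mul_le_mul_left _ hcardA0))
      _ = _ := by ring
  -- the field has two elements
  have h10 : (1 : E2) ≠ 0 := fun h => hη0 (by rw [← mul_one η, h, mul_zero])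
  have h01 : ∀ s ∈ cfield ρ A K, s = 0 ∨ s = 1 := by
    intro s hs
    by_contra h
    push Not at h
    rw [hCdef] at hcard
    have hinj : Function.Injective (![0, 1, ⟨s, hs⟩] : Fin 3 → cfield ρ A K) := by
      intro i j hij
      have hij' := congrArg Subtype.val hij
      fin_cases i <;> fin_cases j <;> simp [h10, h10.symm, h.1, h.2, h.1.symm, h.2.symm] at hij' ⊢
    have := Nat.card_le_card_of_injective _ hinj
    rw [Nat.card_eq_fintype_card, Fintype.card_fin] at this
    omega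
  obtain ⟨S, hS⟩ : ∃ S : Set E2, S = {w | InR ρ A K w ∧ tT ρ A K w = 0 ∧ w * w = 0 ∧ w ≠ 0} := ⟨_, rfl⟩
  have hS3 : S.ncard ≤ 3 := by
    have hsub : S ⊆ ({η, x, 1 + η + x} : Set E2) := by
      rw [hS]
      rintro w ⟨hwR, hwT, hw2, hw0⟩
      obtain ⟨α, hα, γ, hγ, δ, hδ, heq⟩ := span_four hC hη hTη hη2 hx hTx hx2 hanti hwR
      rw [hwT, zero_mul, add_zero] at heq
      have e1 : (η + x) * (η + x) = 1 := by
        rw [mul_add, add_mul, add_mul, hη2, hx2, zero_add, add_zero, add_comm (x * η), hanti]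
      have e2 : ∀ z : E2, z * z = 0 → (1 + z) * (1 + z) = 1 := fun z hz => by
        simp only [mul_add, add_mul, mul_one, one_mul, hz, add_zero]
        rw [add_assoc, end_add_self, add_zero]
      rcases h01 α hα with rfl | rfl <;> rcases h01 γ hγ with rfl | rfl <;> rcases h01 δ hδ with rfl | rfl <;>
        simp only [zero_mul, one_mul, add_zero, zero_add] at heq <;> subst heq
      · exact absurd rfl hw0
      · exact Or.inr (Or.inl rfl)
      · exact Or.inl rfl
      · exact absurd (e1.symm.trans hw2) h10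
      · exact absurd ((one_mul (1 : E2)).symm.trans hw2) h10
      · exact absurd ((e2 x hx2).symm.trans hw2) h10
      · exact absurd ((e2 η hη2).symm.trans hw2) h10
      · exact Or.inr (Or.inr rfl)
    refine (Set.ncard_le_ncard hsub (Set.toFinite _)).trans ?_
    refine (Set.ncard_insert_le _ _).trans (Nat.succ_le_succ ?_)
    refine (Set.ncard_insert_le _ _).trans (Nat.succ_le_succ ?_)
    rw [Set.ncard_singleton]
  have hηS : η ∈ S := hS ▸ ⟨hη, hTη, hη2, hη0⟩
  have hxS : x ∈ S := hS ▸ ⟨hx, hTx, hx2, fun h => h10 (by rw [← hanti, h, mul_zero, zero_mul, add_zero])⟩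
  have hcan : ∀ g : G, ρ g * ρ g⁻¹ = 1 := fun g => by rw [← map_mul, mul_inv_cancel, map_one]
  have hcan' : ∀ g : G, ρ g⁻¹ * ρ g = 1 := fun g => by rw [← map_mul, inv_mul_cancel, map_one]
  have hSmem : ∀ g : K, ∀ w ∈ S, ρ (g : G) * w * ρ (g : G)⁻¹ ∈ S := by
    intro g w hw
    rw [hS] at hw ⊢
    obtain ⟨hwR, hwT, hw2, hw0⟩ := hw
    refine ⟨(inR_conjK hC g.2 hwR).1, (inR_conjK hC g.2 hwR).2.trans hwT, ?_, fun h => hw0 ?_⟩
    · calc ρ (g : G) * w * ρ (g : G)⁻¹ * (ρ (g : G) * w * ρ (g : G)⁻¹)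
          = ρ (g : G) * w * (ρ (g : G)⁻¹ * ρ (g : G)) * w * ρ (g : G)⁻¹ := by simp only [mul_assoc]
        _ = 0 := by rw [hcan', mul_one, mul_assoc (ρ (g : G)), hw2, mul_zero, zero_mul]
    · calc w = ρ (g : G)⁻¹ * (ρ (g : G) * w * ρ (g : G)⁻¹) * ρ (g : G) := by
            rw [mul_assoc (ρ (g : G)), ← mul_assoc, hcan', one_mul, mul_assoc, hcan', mul_one]
        _ = 0 := by rw [h, mul_zero, zero_mul]
  let perm : K → Equiv.Perm S := fun g =>
    { toFun := fun w => ⟨ρ (g : G) * w * ρ (g : G)⁻¹, hSmem g w w.2⟩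
      invFun := fun w => ⟨ρ (g : G)⁻¹ * w * ρ (g : G), by simpa using hSmem g⁻¹ w w.2⟩
      left_inv := fun w => Subtype.ext (by
        show ρ (g : G)⁻¹ * (ρ (g : G) * w * ρ (g : G)⁻¹) * ρ (g : G) = w
        rw [mul_assoc (ρ (g : G)), ← mul_assoc, hcan', one_mul, mul_assoc, hcan', mul_one])
      right_inv := fun w => Subtype.ext (by
        show ρ (g : G) * (ρ (g : G)⁻¹ * w * ρ (g : G)) * ρ (g : G)⁻¹ = w
        rw [mul_assoc (ρ (g : G)⁻¹), ← mul_assoc, hcan, one_mul, mul_assoc, hcan, mul_one]) }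
  let φ : K →* Equiv.Perm S := MonoidHom.mk' perm fun g f => Equiv.ext fun w => Subtype.ext (by
    show ρ ((g : G) * f) * w * ρ ((g : G) * f)⁻¹ = ρ (g : G) * (ρ (f : G) * w * ρ (f : G)⁻¹) * ρ (g : G)⁻¹
    rw [mul_inv_rev, map_mul, map_mul]
    simp only [mul_assoc])
  haveI : Fintype S := (Set.toFinite S).fintype
  have hcardS : Fintype.card S ≤ 3 := by rwa [← Nat.card_eq_fintype_card, Nat.card_coe_set_eq]
  have hsign : ∀ g, Equiv.Perm.sign (φ g) = 1 :=
    qs_hom_trivial hC.qs (Equiv.Perm.sign.comp φ) fun x y => mul_comm _ _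
  have htriv : ∀ g, φ g = 1 := qs_hom_trivial hC.qs φ fun x y => perm_le_three_comm hcardS _ _ (hsign x) (hsign y)
  refine hD.not_comm_image fun g hg f hf => ?_
  have hfixS : ∀ w ∈ S, ρ g * w = w * ρ g := fun w hw => by
    have h1 : ρ g * w * ρ g⁻¹ = w := congrArg Subtype.val (Equiv.congr_fun (htriv ⟨g, hg⟩) ⟨w, hw⟩)
    calc ρ g * w = ρ g * w * ρ g⁻¹ * ρ g := by rw [mul_assoc _ (ρ g⁻¹), hcan', mul_one]
      _ = w * ρ g := by rw [h1]
  exact comm_K_of_comm hC hη hTη hη2 hx hTx hx2 hanti (fun s hs => cfield_comm_K hs hg) (hfixS η hηS) (hfixS x hxS) hf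

end CfsgLib.LocalEvenB.PGV
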