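import Cfsg.Agent.Lib.LocalEvenB.PGV.TwoDelta

/-!
# The P(G,V)-theorem for the prime two: only two conjugates
-/

set_option autoImplicit false
set_option linter.all false
set_option maxHeartbeats 800000

namespace CfsgLib.LocalEvenB.PGV

universe u v

variable {G : Type u} [Group G] [Finite G] [Fact (Nat.Prime 2)]
  {V : Type v} [AddCommGroup V] [Module (ZMod 2) V] [Finite V]
  {ρ : Representation (ZMod 2) G V} {A K : Subgroup G}

theorem sq_of_unip {X : Module.End (ZMod 2) V} : (X - 1) * (X - 1) = X * X - 1 := by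
  calc (X - 1) * (X - 1) = X * X - 1 - (X + X) + (1 + 1) := by rw [mul_sub, sub_mul, sub_mul, mul_one, one_mul]; abel
    _ = X * X - 1 := by rw [end_add_self, end_add_self, sub_zero, add_zero]

theorem Data.rho_sq (hC : Data ρ A K) {a : G} (ha : a ∈ A) : ρ a * ρ a = 1 := by
  rw [← map_mul, ← sq, hC.exp a ha, map_one]

theorem Data.n_sq (hC : Data ρ A K) {a : G} (ha : a ∈ A) : (ρ a - 1) * (ρ a - 1) = 0 := by
  rw [sq_of_unip, hC.rho_sq ha, sub_self]

/-- The diagonal property holds for every moving element. -/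
theorem Counter.delta (hC : Counter ρ A K) {a : G} (ha : a ∈ A) (hm : a ∉ Subgroup.normalizer (K : Set G)) :
    DeltaProp ρ K a := by
  rcases hC.star with h | ⟨b, hb, hbN, hbK, hann⟩
  swap
  · exact hC.toData.delta_of_ann ha hm hb hbN hbK (hann a ha)
  by_cases h1 : ∃ b ∈ A, b ∈ Subgroup.normalizer (K : Set G) ∧ ¬ ∀ g ∈ K, b * g = g * b
  · obtain ⟨b, hb, hbN, hbK⟩ := h1
    exact hC.toData.delta_of_ann ha hm hb hbN hbK (h a ha b hb)
  push Not at h1
  by_cases h2 : ∃ a' ∈ A, a' ∉ Subgroup.normalizer (K : Set G) ∧ a * a' ∉ Subgroup.normalizer (K : Set G)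
  · obtain ⟨a', ha', hm', hm''⟩ := h2
    exact hC.toData.delta_of_two ha hm ha' hm' hm'' (h a ha a' ha')
  push Not at h2
  -- `A` acts as `{1, a}`
  obtain ⟨B, hB⟩ : ∃ B, B = A ⊓ MonoidHom.eqLocus ρ 1 := ⟨_, rfl⟩
  have hBmem : ∀ c ∈ A, c ∈ Subgroup.normalizer (K : Set G) → c ∈ B := fun c hc hcN =>
    hB ▸ ⟨hc, hC.cent hc (h1 c hc hcN)⟩
  have hcov : ∀ c ∈ A, c ∈ B ∨ a * c ∈ B := fun c hc => by
    by_cases hcN : c ∈ Subgroup.normalizer (K : Set G)
    · exact Or.inl (hBmem c hc hcN)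
    · exact Or.inr (hBmem _ (A.mul_mem ha hc) (h2 c hc hcN))
  have hcard : Nat.card A ≤ 2 * Nat.card B := by
    classical
    have hinj : Function.Injective (fun c : A => if hc : (c : G) ∈ B then ((true, ⟨c, hc⟩) : Bool × B) else
        (false, ⟨a * c, (hcov c c.2).resolve_left hc⟩)) := by
      intro c d hcd
      beta_reduce at hcd
      by_cases hc : (c : G) ∈ B <;> by_cases hd : (d : G) ∈ B <;> simp [hc, hd] at hcd
      · exact hcd
      · exact hcd
    have := Nat.card_le_card_of_injective _ hinj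
    rwa [Nat.card_prod, Nat.card_eq_fintype_card (α := Bool), Fintype.card_bool] at this
  have hfixB : fixSub ρ B = ⊤ := eq_top_iff.2 fun x _ c hc => by
    rw [hB] at hc
    rw [show ρ c = 1 from hc.2, Module.End.one_apply]
  have hbest := hC.best B (hB ▸ inf_le_left)
  unfold meas at hbest
  rw [hfixB, Nat.card_congr (Submodule.topEquiv (R := ZMod 2) (M := V)).toEquiv] at hbest
  obtain ⟨n, hn⟩ : ∃ n, n = ρ a - 1 := ⟨_, rfl⟩
  have hker : fixSub ρ A ≤ LinearMap.ker n := fun x hx => by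
    rw [LinearMap.mem_ker, hn, LinearMap.sub_apply, Module.End.one_apply, hx a ha, sub_self]
  have hrange : Nat.card (LinearMap.range n) ≤ 2 := by
    have e1 := Submodule.card_eq_card_quotient_mul_card (LinearMap.ker n)
    rw [Nat.card_congr n.quotKerEquivRange.toEquiv] at e1
    have e2 : Nat.card (fixSub ρ A) ≤ Nat.card (LinearMap.ker n) :=
      Nat.card_le_card_of_injective _ (Submodule.inclusion_injective hker)
    refine Nat.le_of_mul_le_mul_left (c := Nat.card B * Nat.card (LinearMap.ker n)) ?_ (Nat.mul_pos Nat.card_pos Nat.card_pos)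
    calc Nat.card B * Nat.card (LinearMap.ker n) * Nat.card (LinearMap.range n) = Nat.card B * Nat.card V := by
          rw [e1]; ring
      _ ≤ Nat.card A * Nat.card (fixSub ρ A) := hbest
      _ ≤ 2 * Nat.card B * Nat.card (LinearMap.ker n) := Nat.mul_le_mul hcard e2
      _ = _ := by ring
  intro z hz
  rw [← hn]
  obtain ⟨δ, hδ⟩ : ∃ δ, δ = ρ (psi a z) := ⟨_, rfl⟩
  rw [← hδ]
  have hδn : δ * n = n * δ := hδ ▸ hn ▸ hC.toData.psi_n ha hm hz
  refine LinearMap.ext fun x => ?_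
  rw [Module.End.mul_apply]
  by_cases hx : n x = 0
  · rw [hx, map_zero]
  have h0 : δ (n x) ≠ 0 := fun h0 => hx (by
    have := congrArg (ρ (psi a z⁻¹)) h0
    rwa [hδ, map_zero, ← Module.End.mul_apply, ← map_mul, (hC.toData.psi_inv ha hm hz).1, map_one, Module.End.one_apply] at this)
  by_contra hne
  have hmem : δ (n x) ∈ LinearMap.range n := by
    rw [← Module.End.mul_apply, hδn, Module.End.mul_apply]
    exact LinearMap.mem_range_self n _
  have hinj : Function.Injective (![0, ⟨n x, LinearMap.mem_range_self n x⟩, ⟨δ (n x), hmem⟩] : Fin 3 → LinearMap.range n) := by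
    intro i j hij
    fin_cases i <;> fin_cases j <;> first | rfl | (exfalso; simp [Subtype.ext_iff] at hij) | skip
    all_goals exfalso
    all_goals first
      | exact hx hij | exact hx hij.symm | exact h0 hij | exact h0 hij.symm | exact hne hij | exact hne hij.symm
  have := Nat.card_le_card_of_injective _ hinj
  rw [Nat.card_eq_fintype_card, Fintype.card_fin] at this
  omega

/-- The traces commute with `K`, `a`, and are shared by the two conjugates. -/
theorem Counter.tr_comm (hC : Counter ρ A K) {z u : G} (hz : z ∈ K) (hu : u ∈ K) :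
    ρ u * tr ρ z = tr ρ z * ρ u := by
  obtain ⟨a, ha, hm⟩ := hC.moves
  rw [← hC.toData.tr_conj ha hm (hC.delta ha hm) hz]
  unfold tr
  rw [mul_add, add_mul]
  congr 1
  · rw [← map_mul, ← map_mul, hC.toData.cm ha hm hz hu]
  · rw [← map_mul, ← map_mul, (Commute.inv_left (hC.toData.cm ha hm hz hu : Commute (a * z * a⁻¹) u)).eq]

theorem tr_conj_eq (g z : G) : ρ g * tr ρ z * ρ g⁻¹ = tr ρ (g * z * g⁻¹) := by
  unfold tr
  rw [mul_add, add_mul, ← map_mul, ← map_mul, ← map_mul, ← map_mul, show (g * z * g⁻¹)⁻¹ = g * z⁻¹ * g⁻¹ by group]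

theorem Counter.tr_comm_moving (hC : Counter ρ A K) {z : G} (hz : z ∈ K) {c : G} (hc : c ∈ A)
    (hm : c ∉ Subgroup.normalizer (K : Set G)) : ρ c * tr ρ z = tr ρ z * ρ c := by
  have h := tr_conj_eq (ρ := ρ) c z
  rw [hC.toData.tr_conj hc hm (hC.delta hc hm) hz] at h
  calc ρ c * tr ρ z = ρ c * tr ρ z * ρ c⁻¹ * ρ c := by rw [mul_assoc _ (ρ c⁻¹), ← map_mul, inv_mul_cancel, map_one, mul_one]
    _ = _ := by rw [h]

/-- There are only two conjugates. -/
theorem Counter.index_two (hC : Counter ρ A K) {a a' : G} (ha : a ∈ A) (hm : a ∉ Subgroup.normalizer (K : Set G))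
    (ha' : a' ∈ A) (hm' : a' ∉ Subgroup.normalizer (K : Set G)) : a * a' ∈ Subgroup.normalizer (K : Set G) := by
  by_contra hm''
  have haa : a * a' ∈ A := A.mul_mem ha ha'
  have hD := hC.toData
  have hd := hC.delta ha hm
  refine hD.moved_contra ha hm fun z hz hzo _ => ?_
  obtain ⟨n, hn⟩ : ∃ n, n = ρ a - 1 := ⟨_, rfl⟩
  have ha2 : a * a = 1 := by rw [← sq]; exact hC.exp a ha
  obtain ⟨z3, hz3⟩ : ∃ z3, z3 = a' * z * a'⁻¹ := ⟨_, rfl⟩
  obtain ⟨z4, hz4⟩ : ∃ z4, z4 = a * a' * z * (a * a')⁻¹ := ⟨_, rfl⟩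
  have h43 : z4 = a * z3 * a⁻¹ := by rw [hz3, hz4]; group
  obtain ⟨Q, hQ⟩ : ∃ Q, Q = ρ z3 + ρ z4 := ⟨_, rfl⟩
  have hQn : Q = n * ρ z3 + ρ z3 * n + n * ρ z3 * n := by
    have h1 : ρ z4 = ρ a * ρ z3 * ρ a := by rw [h43, map_mul, map_mul, hD.inv_eq ha]
    have h2 : ρ a = n + 1 := by rw [hn, sub_add_cancel]
    rw [hQ, h1, h2]
    calc ρ z3 + (n + 1) * ρ z3 * (n + 1) = n * ρ z3 + ρ z3 * n + n * ρ z3 * n + (ρ z3 + ρ z3) := by
          simp only [add_mul, mul_add, mul_one, one_mul]; abel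
      _ = _ := by rw [end_add_self, add_zero]
  have hu3 : ∀ u ∈ K, Commute u z3 ∧ Commute u z4 := fun u hu =>
    ⟨hz3 ▸ (hD.cm ha' hm' hz hu).symm, hz4 ▸ (hD.cm haa hm'' hz hu).symm⟩
  have hu3' : ∀ u ∈ K, Commute (a * u * a⁻¹) z3 ∧ Commute (a * u * a⁻¹) z4 := fun u hu => by
    have e4 : a * z4 * a⁻¹ = z3 := by
      rw [h43, hD.inv_eq ha]
      calc a * (a * z3 * a) * a = (a * a) * z3 * (a * a) := by group
        _ = z3 := by rw [ha2]; simp
    refine ⟨?_, ?_⟩
    · rw [← e4]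
      exact (hu3 u hu).2.map (MulAut.conj a)
    · rw [h43]
      exact (hu3 u hu).1.map (MulAut.conj a)
  have hψQ : ∀ u ∈ K, ρ (psi a u) * Q = Q := fun u hu => by
    have hc : ρ (psi a u) * ρ z3 = ρ z3 * ρ (psi a u) := by
      rw [← map_mul, ← map_mul, (show Commute (psi a u) z3 from (hu3 u hu).1.mul_left (hu3' u hu).1).eq]
    have hδ : ρ (psi a u) * n = n := hn ▸ hd u hu
    rw [hQn, mul_add, mul_add, ← mul_assoc _ n, hδ, ← mul_assoc _ (ρ z3), hc, mul_assoc (ρ z3), hδ,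
      ← mul_assoc _ (n * ρ z3) n, ← mul_assoc _ n, hδ]
  have hQu : ∀ u ∈ K, ρ u * Q = Q * ρ u := fun u hu => by
    rw [hQ, mul_add, add_mul, ← map_mul, ← map_mul, ← map_mul, ← map_mul, (hu3 u hu).1.eq, (hu3 u hu).2.eq]
  have hKQ : ∀ g ∈ K, ρ g * Q = Q := by
    have hinv : ∀ u ∈ K, ρ u * Q = ρ (a * u * a⁻¹)⁻¹ * Q := fun u hu => by
      conv_rhs => rw [← hψQ u hu, ← mul_assoc, ← map_mul]
      congr 2
      unfold psi
      rw [← mul_assoc, (Commute.inv_left (hD.cm ha hm hu hu : Commute (a * u * a⁻¹) u)).eq, mul_assoc, inv_mul_cancel, mul_one]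
    by_contra hne
    push Not at hne
    obtain ⟨g, hg, hgne⟩ := hne
    refine qs_not_comm hC.qs fun x hx y hy => ?_
    refine ((qs_z hC.qs (stab ρ Q) (fun u hu g hg hgS => ?_) hy fun u hu => ?_).resolve_left fun hle => hgne (hle hg)) x hx
    · show ρ (u * g * u⁻¹) * Q = Q
      rw [map_mul, map_mul, mul_assoc, hQu _ (K.inv_mem hu), ← mul_assoc, mul_assoc (ρ u), (hgS : ρ g * Q = Q),
        hQu u hu, mul_assoc, ← map_mul, mul_inv_cancel, map_one, mul_one]
    · show ρ (u * y * u⁻¹ * y⁻¹) * Q = Q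
      have hc : Commute u (a * y * a⁻¹)⁻¹ := (Commute.symm (hD.cm ha hm hy hu : Commute (a * y * a⁻¹) u)).inv_right
      have h1 : ρ (u * y * u⁻¹) * Q = ρ y * Q := by
        rw [map_mul, map_mul, mul_assoc, hQu _ (K.inv_mem hu), ← mul_assoc, mul_assoc (ρ u), hinv y hy, ← mul_assoc,
          ← map_mul, hc.eq, map_mul, mul_assoc, mul_assoc, ← mul_assoc (ρ u), hQu u hu, mul_assoc Q, ← map_mul,
          mul_inv_cancel, map_one, mul_one]
      rw [map_mul, mul_assoc, hQu _ (K.inv_mem hy), ← mul_assoc, h1, mul_assoc, ← hQu _ (K.inv_mem hy), ← mul_assoc,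
        ← map_mul, mul_inv_cancel, map_one, one_mul]
  have ht0 : tr ρ z * Q = 0 := by
    rw [tr, add_mul, hKQ z hz, hKQ _ (K.inv_mem hz), end_add_self]
  have hfix : ∀ w, tr ρ w = tr ρ z → orderOf w = orderOf z → ρ w * Q = Q := fun w htw how => by
    rw [← htw] at ht0
    have h2 : ρ w * ρ w * Q = Q := by
      have := congrArg (ρ w * ·) ht0
      rw [tr] at this
      beta_reduce at this
      rw [mul_zero, ← mul_assoc, mul_add, ← map_mul ρ w w⁻¹, mul_inv_cancel, map_one, add_mul, one_mul] at this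
      rw [eq_neg_of_add_eq_zero_left this, neg_eq_of_add_eq_zero_right (end_add_self Q)]
    have h3 := fix_of_pow (X := Q) hzo (T := ρ w) (by rw [← how]; exact rho_pow_orderOf ρ w)
      (by rw [← mul_assoc, sq_of_unip, sub_mul, h2, one_mul, sub_self])
    rwa [sub_mul, one_mul, sub_eq_zero] at h3
  have hQ3 := hfix z3 (hz3 ▸ hD.tr_conj ha' hm' (hC.delta ha' hm') hz)
    (by rw [hz3]; exact MulEquiv.orderOf_eq (MulAut.conj a') z)
  have hQ4 := hfix z4 (hz4 ▸ hD.tr_conj haa hm'' (hC.delta haa hm'') hz)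
    (by rw [hz4]; exact MulEquiv.orderOf_eq (MulAut.conj (a * a')) z)
  have hQQ : Q * Q = 0 := by
    conv_lhs => arg 1; rw [hQ]
    rw [add_mul, hQ3, hQ4, end_add_self]
  have hc34 : Commute z3 z4 := by
    have := (hu3 z hz).1
    rw [hz4, show a * a' * z * (a * a')⁻¹ = a' * (a * z * a⁻¹) * a'⁻¹ by
      calc a * a' * z * (a * a')⁻¹ = (a' * a) * z * (a' * a)⁻¹ := by rw [hC.comm a ha a' ha']
        _ = _ := by group, hz3]
    exact (Commute.symm (hD.cm ha hm hz hz : Commute (a * z * a⁻¹) z)).map (MulAut.conj a')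
  have hT : ρ (z3 * z4⁻¹) = 1 := by
    refine eq_one_of_sq hzo ?_ ?_
    · rw [← map_pow, hc34.inv_right.mul_pow, inv_pow, hz3, hz4, show a' * z * a'⁻¹ = MulAut.conj a' z from rfl,
        show a * a' * z * (a * a')⁻¹ = MulAut.conj (a * a') z from rfl, ← map_pow, ← map_pow, pow_orderOf_eq_one, map_one,
        map_one, inv_one, mul_one, map_one]
    · have h1 : ρ (z3 * z4⁻¹) - 1 = Q * ρ z4⁻¹ := by
        rw [hQ, add_mul, ← map_mul, ← map_mul, mul_inv_cancel, map_one, end_sub_eq_add]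
      have h2 : ρ z4⁻¹ * Q = Q * ρ z4⁻¹ := by
        rw [hQ, mul_add, add_mul, ← map_mul, ← map_mul, ← map_mul, ← map_mul, inv_mul_cancel, mul_inv_cancel,
          hc34.inv_right.eq]
      rw [h1, mul_assoc, ← mul_assoc (ρ z4⁻¹), h2, ← mul_assoc, ← mul_assoc, hQQ, zero_mul, zero_mul]
  have h34 : ρ z3 = ρ z4 := by
    calc ρ z3 = ρ (z3 * z4⁻¹) * ρ z4 := by rw [← map_mul, inv_mul_cancel_right]
      _ = ρ z4 := by rw [hT, one_mul]
  have := congrArg (fun X => ρ a'⁻¹ * X * ρ a') h34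
  simp only [← map_mul] at this
  rw [hz3, hz4, show a'⁻¹ * (a' * z * a'⁻¹) * a' = z by group,
    show a'⁻¹ * (a * a' * z * (a * a')⁻¹) * a' = a * z * a⁻¹ by
      calc a'⁻¹ * (a * a' * z * (a * a')⁻¹) * a' = a'⁻¹ * ((a' * a) * z * (a' * a)⁻¹) * a' := by rw [hC.comm a ha a' ha']
        _ = _ := by group] at this
  exact this.symm

end CfsgLib.LocalEvenB.PGV
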